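import Cfsg.Agent.AltCentCert.Code

/-!
A checker for identities in the group algebra of an alternating group, folded by an idempotent: from
relations satisfied by an eigenvector of a subgroup it deduces that the vector is zero.
-/

set_option autoImplicit false

namespace Cfsg.Agent.AltCentCert

/-- binary trees, as indexed tables -/
inductive Tab (α : Type) where
  | leaf (a : α)
  | node (l r : Tab α)

/-- entry `i` (low bit at the root) -/
def Tab.get {α : Type} : Tab α → ℕ → α
  | .leaf a, _ => a
  | .node l r, i => if i % 2 = 0 then l.get (i / 2) else r.get (i / 2)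

/-- an entry of the table of the stabiliser: code, eigenvalue, predecessor, generator -/
structure KE where
  c : ℕ
  v : ℕ
  par : ℕ
  gen : ℕ

/-- the data common to the certificates for one eigencharacter -/
structure Ctx where
  n : ℕ
  p : ℕ
  one : ℕ
  gens : List (ℕ × ℕ)
  ksize : ℕ
  K : Tab KE
  Q : List ℕ
  winv : List ℕ
  rsize : ℕ
  R : Tab ℕ

namespace Ctx

variable (D : Ctx)

def kc (i : ℕ) : ℕ := (D.K.get i).c
def kv (i : ℕ) : ℕ := (D.K.get i).v

/-- the stabiliser table -/
def checkK : Bool :=
  decide (0 < D.ksize) && okB D.n D.one && decide (D.one = code (1 : Equiv.Perm (Fin D.n))) &&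
    (D.gens.all fun g => okB D.n g.1) &&
    (List.range D.ksize).all fun i =>
      if i = 0 then (D.kc 0 == D.one) && (D.kv 0 == 1) else
        decide ((D.K.get i).par < i) && decide ((D.K.get i).gen < D.gens.length) &&
          ((D.kc i) == comp (D.kc (D.K.get i).par) D.n (D.gens.getD (D.K.get i).gen (0, 0)).1) &&
          ((D.kv i) == D.kv (D.K.get i).par * (D.gens.getD (D.K.get i).gen (0, 0)).2 % D.p)

/-- the folding subgroup and the inverse eigenvalues -/
def checkQ : Bool :=
  decide (D.Q.length % D.p ≠ 0) && decide ((D.Q.map D.kc).Nodup) &&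
    (D.Q.all fun q => decide (q < D.ksize)) &&
    ((List.range D.Q.length).all fun i => D.winv.getD i 0 * D.kv (D.Q.getD i 0) % D.p == 1) &&
    (D.Q.all fun q => D.Q.all fun r => (List.range D.Q.length).any fun s =>
      (D.kc (D.Q.getD s 0) == comp (D.kc q) D.n (D.kc r)) &&
        (D.kv (D.Q.getD s 0) == D.kv q * D.kv r % D.p))

/-- the representatives, the identity first -/
def checkR : Bool :=
  (D.R.get 0 == D.one) && (List.range D.rsize).all fun j => okB D.n (D.R.get j)

/-- `a` fixes the combination `T` -/
def checkFix (a : ℕ) (T : List (ℕ × ℕ)) (w : List (ℕ × ℕ)) : Bool :=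
  decide (w.length = T.length) && decide ((w.map Prod.fst).Nodup) &&
    (List.range T.length).all fun i =>
      decide ((w.getD i (0, 0)).1 < T.length) && decide ((w.getD i (0, 0)).2 < D.ksize) &&
        (comp a D.n (T.getD i (0, 0)).1 ==
          comp (T.getD (w.getD i (0, 0)).1 (0, 0)).1 D.n (D.kc (w.getD i (0, 0)).2)) &&
        ((T.getD i (0, 0)).2 * D.kv (w.getD i (0, 0)).2 % D.p == (T.getD (w.getD i (0, 0)).1 (0, 0)).2 % D.p)

/-- the witness for one product `x`: `(j, q, k)` -/
def checkInc (x : ℕ) : ℕ × ℕ × ℕ → Bool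
  | (j, q, k) =>
    decide (q < D.Q.length) && decide (k < D.ksize) &&
      if j < D.rsize then x == comp (comp (D.kc (D.Q.getD q 0)) D.n (D.R.get j)) D.n (D.kc k)
      else (comp (D.kc (D.Q.getD q 0)) D.n x == comp x D.n (D.kc k)) &&
        decide (D.kv (D.Q.getD q 0) % D.p ≠ D.kv k % D.p)

/-- the coefficient of a witness -/
def incVal (c : ℕ) : ℕ × ℕ × ℕ → ℕ
  | (j, q, k) => if j < D.rsize then c * D.kv (D.Q.getD q 0) * D.kv k % D.p else 0

/-- one translate of a relation: coefficient, translating code, relation, witnesses -/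
def checkTerm (seeds : List (List (ℕ × ℕ))) : ℕ × ℕ × ℕ × List (ℕ × ℕ × ℕ) → Bool
  | (_, t, s, ws) =>
    decide (s < seeds.length) && okB D.n t && decide (ws.length = (seeds.getD s []).length) &&
      ((seeds.getD s []).zip ws).all fun e => D.checkInc (comp t D.n e.1.1) e.2

/-- packed contribution of the witnesses of one translate -/
def termSum (B c : ℕ) : List ((ℕ × ℕ) × ℕ × ℕ × ℕ) → ℕ
  | [] => 0
  | e :: l => D.incVal (c * e.1.2) e.2 * B ^ e.2.1 + termSum B c l

/-- packed contribution of all translates -/
def total (B : ℕ) (seeds : List (List (ℕ × ℕ))) : List (ℕ × ℕ × ℕ × List (ℕ × ℕ × ℕ)) → ℕ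
  | [] => 0
  | (c, _, s, ws) :: l => D.termSum B c ((seeds.getD s []).zip ws) + total B seeds l

/-- the number of witnesses -/
def count : List (ℕ × ℕ × ℕ × List (ℕ × ℕ × ℕ)) → ℕ
  | [] => 0
  | (_, _, _, ws) :: l => ws.length + count l

/-- the folded sum is a unit multiple of the identity class; `T` is the packed sum -/
def checkTotal (B : ℕ) (seeds : List (List (ℕ × ℕ))) (l : List (ℕ × ℕ × ℕ × List (ℕ × ℕ × ℕ)))
    (T : ℕ) : Bool :=
  decide (count l * D.p < B) && decide (0 < D.rsize) && (D.total B seeds l == T) &&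
    (List.range D.rsize).all fun j => (decide (j = 0)) == decide (T / B ^ j % B % D.p ≠ 0)

end Ctx

end Cfsg.Agent.AltCentCert
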