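import Mathlib

/-!
Even permutations of `Fin n` (`n ≤ 16`) packed into natural numbers, four bits a point, so that
products can be checked by kernel arithmetic.
-/

set_option autoImplicit false

namespace Cfsg.Agent.AltCentCert

/-- the `i`-th digit -/
def dig (c i : ℕ) : ℕ := c / 16 ^ i % 16

/-- digits of a function -/
def pack (f : ℕ → ℕ) : ℕ → ℕ
  | 0 => 0
  | k + 1 => f 0 + 16 * pack (fun i => f (i + 1)) k

/-- composition of two packed maps -/
def comp (a : ℕ) : ℕ → ℕ → ℕ
  | 0, _ => 0
  | k + 1, b => dig a (b % 16) + 16 * comp a k (b / 16)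

/-- test that the first `k` digits of `c` differ from `x`, counting those below it modulo two -/
def below (x : ℕ) : ℕ → ℕ → Bool × Bool
  | 0, _ => (true, false)
  | k + 1, c => ((below x k (c / 16)).1 && c % 16 != x,
      xor (below x k (c / 16)).2 (decide (c % 16 < x)))

/-- injectivity and parity of inversions -/
def scan (n : ℕ) : ℕ → ℕ → Bool × Bool
  | 0, _ => (true, false)
  | k + 1, c => ((scan n k (c / 16)).1 && decide (c % 16 < n) && (below (c % 16) k (c / 16)).1,
      xor (scan n k (c / 16)).2 (below (c % 16) k (c / 16)).2)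

/-- the code of an even permutation -/
def okB (n c : ℕ) : Bool :=
  decide (n ≤ 16) && decide (c < 16 ^ n) && (scan n n c).1 && !(scan n n c).2

theorem dig_zero (c : ℕ) : dig c 0 = c % 16 := by simp [dig]

theorem dig_succ (c i : ℕ) : dig c (i + 1) = dig (c / 16) i := by
  rw [dig, dig, pow_succ', Nat.div_div_eq_div_mul]

theorem dig_pack : ∀ (k : ℕ) (f : ℕ → ℕ) (i : ℕ), (∀ j, j < k → f j < 16) → i < k → dig (pack f k) i = f i
  | 0, f, i, _, hi => absurd hi (Nat.not_lt_zero _)
  | k + 1, f, 0, hf, _ => by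
    rw [dig_zero, pack]
    have := hf 0 (by omega)
    omega
  | k + 1, f, i + 1, hf, hi => by
    rw [dig_succ, pack]
    have h0 := hf 0 (by omega)
    rw [show (f 0 + 16 * pack (fun i => f (i + 1)) k) / 16 = pack (fun i => f (i + 1)) k by omega]
    exact dig_pack k (fun i => f (i + 1)) i (fun j hj => hf _ (by omega)) (by omega)

theorem pack_congr : ∀ (k : ℕ) (f g : ℕ → ℕ), (∀ i, i < k → f i = g i) → pack f k = pack g k
  | 0, _, _, _ => rfl
  | k + 1, f, g, h => by
    rw [pack, pack, h 0 (by omega), pack_congr k _ _ fun i hi => h (i + 1) (by omega)]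

theorem pack_dig : ∀ (k c : ℕ), c < 16 ^ k → pack (dig c) k = c
  | 0, c, h => by simp at h; simp [pack, h]
  | k + 1, c, h => by
    rw [pack, dig_zero, pack_congr k (fun i => dig c (i + 1)) (dig (c / 16)) fun i _ => dig_succ c i,
      pack_dig k (c / 16) (by rw [pow_succ'] at h; omega)]
    omega

theorem comp_pack (a : ℕ) : ∀ (k : ℕ) (f : ℕ → ℕ), (∀ i, i < k → f i < 16) →
    comp a k (pack f k) = pack (fun i => dig a (f i)) k
  | 0, _, _ => rfl
  | k + 1, f, hf => by
    have h0 := hf 0 (by omega)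
    rw [pack, comp, pack, show (f 0 + 16 * pack (fun i => f (i + 1)) k) % 16 = f 0 by omega,
      show (f 0 + 16 * pack (fun i => f (i + 1)) k) / 16 = pack (fun i => f (i + 1)) k by omega,
      comp_pack a k _ fun i hi => hf _ (by omega)]

theorem below_spec (x : ℕ) : ∀ (k c : ℕ), (below x k c).1 = true →
    (∀ i, i < k → dig c i ≠ x) ∧
      (if (below x k c).2 then (-1 : ℤˣ) else 1) =
        ∏ i ∈ Finset.range k, if dig c i < x then (-1 : ℤˣ) else 1
  | 0, c, _ => by simp [below]
  | k + 1, c, h => by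
    simp only [below, Bool.and_eq_true, bne_iff_ne] at h ⊢
    obtain ⟨h1, h2⟩ := below_spec x k (c / 16) h.1
    refine ⟨fun i hi => ?_, ?_⟩
    · cases i with
      | zero => rw [dig_zero]; exact h.2
      | succ i => rw [dig_succ]; exact h1 i (by omega)
    · rw [Finset.prod_range_succ', dig_zero]
      simp only [dig_succ]
      rw [← h2]
      by_cases hx : c % 16 < x <;> cases (below x k (c / 16)).2 <;> simp [hx]

theorem scan_spec (n : ℕ) : ∀ (k c : ℕ), (scan n k c).1 = true →
    (∀ i, i < k → dig c i < n) ∧ (∀ i j, i < j → j < k → dig c j ≠ dig c i) ∧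
      (if (scan n k c).2 then (-1 : ℤˣ) else 1) =
        ∏ i ∈ Finset.range k, ∏ j ∈ Finset.Ico (i + 1) k, if dig c j < dig c i then (-1 : ℤˣ) else 1
  | 0, c, _ => by simp [scan]
  | k + 1, c, h => by
    simp only [scan, Bool.and_eq_true, decide_eq_true_eq] at h ⊢
    obtain ⟨h1, h2, h3⟩ := scan_spec n k (c / 16) h.1.1
    obtain ⟨b1, b2⟩ := below_spec (c % 16) k (c / 16) h.2
    refine ⟨fun i hi => ?_, fun i j hij hj => ?_, ?_⟩
    · cases i with
      | zero => rw [dig_zero]; exact h.1.2
      | succ i => rw [dig_succ]; exact h1 i (by omega)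
    · cases j with
      | zero => omega
      | succ j =>
        cases i with
        | zero => rw [dig_zero, dig_succ]; exact b1 j (by omega)
        | succ i => rw [dig_succ, dig_succ]; exact h2 i j (by omega) (by omega)
    · rw [Finset.prod_range_succ', dig_zero]
      simp only [dig_succ]
      have e : ∀ (a : ℕ) (F : ℕ → ℤˣ),
          ∏ j ∈ Finset.Ico (a + 1) (k + 1), F j = ∏ j ∈ Finset.Ico a k, F (j + 1) := fun a F => by
        rw [← Finset.prod_Ico_add']
      rw [e 0, ← Finset.range_eq_Ico]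
      simp only [e, dig_succ]
      rw [← h3, ← b2]
      have key : ∀ x y : Bool, (if (x ^^ y) = true then (-1 : ℤˣ) else 1) =
          (if x = true then (-1 : ℤˣ) else 1) * (if y = true then (-1 : ℤˣ) else 1) := by decide
      exact key _ _

variable {n : ℕ}

/-- the code of a permutation -/
def code (σ : Equiv.Perm (Fin n)) : ℕ := pack (fun i => if h : i < n then (σ ⟨i, h⟩).1 else 0) n

theorem dig_code (hn : n ≤ 16) (σ : Equiv.Perm (Fin n)) (i : Fin n) : dig (code σ) i.1 = (σ i).1 := by
  rw [code, dig_pack n _ i.1 (fun j hj => by rw [dif_pos hj]; exact lt_of_lt_of_le (σ _).2 hn) i.2,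
    dif_pos i.2]

theorem code_injective (hn : n ≤ 16) : Function.Injective (code : Equiv.Perm (Fin n) → ℕ) :=
  fun σ τ h => Equiv.ext fun i => Fin.ext (by rw [← dig_code hn σ i, h, dig_code hn τ i])

theorem code_mul (hn : n ≤ 16) (σ τ : Equiv.Perm (Fin n)) :
    code (σ * τ) = comp (code σ) n (code τ) := by
  conv_rhs => arg 3; rw [code]
  rw [comp_pack _ n _ fun j hj => by rw [dif_pos hj]; exact lt_of_lt_of_le (τ _).2 hn, code]
  refine pack_congr n _ _ fun i hi => ?_
  simp only [dif_pos hi, Equiv.Perm.mul_apply]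
  rw [dig_code hn σ (τ ⟨i, hi⟩)]

/-- the alternating group on `Fin n` -/
abbrev Alt (n : ℕ) := ↥(alternatingGroup (Fin n))

open Classical in
/-- the even permutation with a given code -/
noncomputable def el (n c : ℕ) : Alt n :=
  if h : ∃ σ : Alt n, code σ.1 = c then h.choose else 1

/-- `c` codes an even permutation -/
def Valid (n c : ℕ) : Prop := n ≤ 16 ∧ code (el n c).1 = c

theorem valid_of_exists (hn : n ≤ 16) {c : ℕ} (h : ∃ σ : Alt n, code σ.1 = c) : Valid n c := by
  classical
  refine ⟨hn, ?_⟩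
  rw [el, dif_pos h]
  exact h.choose_spec

theorem el_eq (hn : n ≤ 16) {c : ℕ} {σ : Alt n} (h : code σ.1 = c) : el n c = σ :=
  Subtype.ext (code_injective hn (by rw [(valid_of_exists hn ⟨σ, h⟩).2, h]))

theorem Valid.comp {a b : ℕ} (ha : Valid n a) (hb : Valid n b) :
    Valid n (comp a n b) ∧ el n (comp a n b) = el n a * el n b := by
  have h : code (el n a * el n b).1 = AltCentCert.comp a n b := by
    rw [Subgroup.coe_mul, code_mul ha.1, ha.2, hb.2]
  exact ⟨valid_of_exists ha.1 ⟨_, h⟩, el_eq ha.1 h⟩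

theorem valid_of_okB {c : ℕ} (h : okB n c = true) : Valid n c := by
  simp only [okB, Bool.and_eq_true, decide_eq_true_eq, Bool.not_eq_true'] at h
  obtain ⟨⟨⟨hn, hc⟩, h1⟩, h2⟩ := h
  obtain ⟨hlt, hne, hs⟩ := scan_spec n n c h1
  let f : Fin n → Fin n := fun i => ⟨dig c i.1, hlt i.1 i.2⟩
  have hinj : Function.Injective f := fun i j e => by
    have e' : dig c i.1 = dig c j.1 := congrArg Fin.val e
    rcases lt_trichotomy i.1 j.1 with hl | hl | hl
    · exact absurd e'.symm (hne _ _ hl j.2)
    · exact Fin.ext hl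
    · exact absurd e' (hne _ _ hl i.2)
  let σ : Equiv.Perm (Fin n) := Equiv.ofBijective f (Finite.injective_iff_bijective.1 hinj)
  have hcode : code σ = c := by
    rw [code]
    conv_rhs => rw [← pack_dig n c hc]
    exact pack_congr n _ _ fun i hi => by rw [dif_pos hi]; rfl
  have hsign : σ.sign = 1 := by
    rw [h2] at hs
    refine Eq.trans ?_ (hs.symm.trans (by simp))
    rw [Equiv.Perm.sign_eq_prod_prod_Ioi, ← Fin.prod_univ_eq_prod_range]
    refine Finset.prod_congr rfl fun i _ => ?_
    have hI : (Finset.Ioi i).map Fin.valEmbedding = Finset.Ico (i.1 + 1) n := by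
      ext j
      simp only [Finset.mem_map, Finset.mem_Ioi, Fin.valEmbedding_apply, Finset.mem_Ico]
      exact ⟨fun ⟨a, ha, e⟩ => e ▸ ⟨ha, a.2⟩, fun hj => ⟨⟨j, hj.2⟩, hj.1, rfl⟩⟩
    rw [← hI, Finset.prod_map]
    refine Finset.prod_congr rfl fun j hj => ?_
    have hij : i.1 < j.1 := (Finset.mem_Ioi (α := Fin n)).1 hj
    have hd : dig c j.1 ≠ dig c i.1 := hne _ _ hij j.2
    show (if (⟨dig c i.1, _⟩ : Fin n) < ⟨dig c j.1, _⟩ then (1 : ℤˣ) else -1) = _
    simp only [Fin.valEmbedding_apply, Fin.mk_lt_mk]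
    split_ifs <;> first | rfl | omega
  exact valid_of_exists hn ⟨⟨σ, hsign⟩, hcode⟩

end Cfsg.Agent.AltCentCert
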