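import Cfsg.Agent.AltCentCert.Words
import Cfsg.Agent.AltCentCert.T11
import Cfsg.Agent.AltCentCert.T12
import Cfsg.Agent.AltCentCert.T13
import Cfsg.Agent.AltCentCert.T14
import Cfsg.Agent.AltCentCert.T41
import Cfsg.Agent.AltCentCert.T42
import Cfsg.Agent.AltCentCert.T43
import Cfsg.Agent.AltCentCert.T44
import Cfsg.Agent.AltCentCert.M2
import Cfsg.Agent.AltCentCert.M3

/-!
In a non-zero finite module over five elements for the alternating group on ten points, some non-zero
vector is fixed by two elements generating a non-solvable subgroup.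
-/

set_option autoImplicit false
set_option linter.style.longLine false

namespace Cfsg.Agent.AltCentCert.Ten

abbrev cA : ℕ := 654820000545
abbrev cB : ℕ := 384523579920
abbrev cI : ℕ := 654820057920
abbrev cJ : ℕ := 444685627920
abbrev cC : ℕ := 578064421920
abbrev cS : ℕ := 288317008245
abbrev cE : ℕ := 654820258320
abbrev cIJ : ℕ := 444685427520

variable {V : Type*} [AddCommGroup V] [DistribMulAction (Alt 10) V]

/-- the action of a coded element -/
noncomputable def E (c : ℕ) (w : V) : V := el 10 c • w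

theorem E_add (c : ℕ) (u w : V) : E c (u + w) = E c u + E c w := smul_add (el 10 c) u w

theorem E_nsmul (c m : ℕ) (w : V) : E c (m • w) = m • E c w := smul_comm (el 10 c) m w

theorem act {l m : List ℕ} (h : wordsB 10 cE l m = true) (w : V) :
    l.foldr E w = m.foldr E w := by
  have e : ∀ l : List ℕ, l.foldr E w = (l.map (el 10)).prod • w := by
    intro l
    induction l with
    | nil => simp
    | cons x l ih => rw [List.foldr_cons, ih, List.map_cons, List.prod_cons, mul_smul]; rfl
  rw [e, e, words_eq h]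

/-- fixed by the two cycles -/
def PF (w : V) : Prop := E cA w = w ∧ E cB w = w

theorem pf_add {u w : V} (hu : PF u) (hw : PF w) : PF (u + w) :=
  ⟨by rw [E_add, hu.1, hw.1], by rw [E_add, hu.2, hw.2]⟩

theorem pf_nsmul {w : V} (m : ℕ) (hw : PF w) : PF (m • w) :=
  ⟨by rw [E_nsmul, hw.1], by rw [E_nsmul, hw.2]⟩

theorem aI (w : V) : E cA (E cI w) = E cI (E cA (E cA (E cA (E cA w)))) :=
  act (l := [cA, cI]) (m := [cI, cA, cA, cA, cA]) (by decide +kernel) w
theorem bI (w : V) : E cB (E cI w) = E cI (E cB w) :=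
  act (l := [cB, cI]) (m := [cI, cB]) (by decide +kernel) w
theorem aJ (w : V) : E cA (E cJ w) = E cJ (E cA w) :=
  act (l := [cA, cJ]) (m := [cJ, cA]) (by decide +kernel) w
theorem bJ (w : V) : E cB (E cJ w) = E cJ (E cB (E cB (E cB (E cB w)))) :=
  act (l := [cB, cJ]) (m := [cJ, cB, cB, cB, cB]) (by decide +kernel) w
theorem aC (w : V) : E cA (E cC w) = E cC (E cA (E cA (E cA w))) :=
  act (l := [cA, cC]) (m := [cC, cA, cA, cA]) (by decide +kernel) w
theorem bC (w : V) : E cB (E cC w) = E cC (E cB (E cB (E cB w))) :=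
  act (l := [cB, cC]) (m := [cC, cB, cB, cB]) (by decide +kernel) w
theorem aS (w : V) : E cA (E cS w) = E cS (E cB w) :=
  act (l := [cA, cS]) (m := [cS, cB]) (by decide +kernel) w
theorem bS (w : V) : E cB (E cS w) = E cS (E cA (E cA (E cA w))) :=
  act (l := [cB, cS]) (m := [cS, cA, cA, cA]) (by decide +kernel) w
theorem iS (w : V) : E cI (E cS w) = E cS (E cJ w) :=
  act (l := [cI, cS]) (m := [cS, cJ]) (by decide +kernel) w
theorem jS (w : V) : E cJ (E cS w) = E cS (E cI w) :=
  act (l := [cJ, cS]) (m := [cS, cI]) (by decide +kernel) w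
theorem iC (w : V) : E cI (E cC w) = E cC (E cI w) :=
  act (l := [cI, cC]) (m := [cC, cI]) (by decide +kernel) w
theorem jC (w : V) : E cJ (E cC w) = E cC (E cJ w) :=
  act (l := [cJ, cC]) (m := [cC, cJ]) (by decide +kernel) w
theorem ij (w : V) : E cI (E cJ w) = E cJ (E cI w) :=
  act (l := [cI, cJ]) (m := [cJ, cI]) (by decide +kernel) w
theorem ss (w : V) : E cS (E cS w) = E cC w :=
  act (l := [cS, cS]) (m := [cC]) (by decide +kernel) w
theorem cc (w : V) : E cC (E cC w) = E cI (E cJ w) :=
  act (l := [cC, cC]) (m := [cI, cJ]) (by decide +kernel) w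
theorem ii (w : V) : E cI (E cI w) = w :=
  act (l := [cI, cI]) (m := []) (by decide +kernel) w
theorem jj (w : V) : E cJ (E cJ w) = w :=
  act (l := [cJ, cJ]) (m := []) (by decide +kernel) w

theorem pfI {w : V} (h : PF w) : PF (E cI w) :=
  ⟨by rw [aI, h.1, h.1, h.1, h.1], by rw [bI, h.2]⟩
theorem pfJ {w : V} (h : PF w) : PF (E cJ w) :=
  ⟨by rw [aJ, h.1], by rw [bJ, h.2, h.2, h.2, h.2]⟩
theorem pfC {w : V} (h : PF w) : PF (E cC w) :=
  ⟨by rw [aC, h.1, h.1, h.1], by rw [bC, h.2, h.2, h.2]⟩
theorem pfS {w : V} (h : PF w) : PF (E cS w) :=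
  ⟨by rw [aS, h.2], by rw [bS, h.1, h.1, h.1]⟩

variable (hp : ∀ w : V, 5 • w = 0) (hn : NoFixed 10 V)

section
include hp hn

theorem common_case {e lam : ℕ} (he : e = 1 ∨ e = 4) (hl : lam ∈ [1, 2, 3, 4]) {x : V} (hx : PF x)
    (hi : E cI x = e • x) (hj : E cJ x = e • x) (hs : E cS x = lam • x) : x = 0 := by
  letI : DistribMulAction (Alt T11.ctx.n) V := ‹DistribMulAction (Alt 10) V›
  letI : DistribMulAction (Alt T12.ctx.n) V := ‹DistribMulAction (Alt 10) V›
  letI : DistribMulAction (Alt T13.ctx.n) V := ‹DistribMulAction (Alt 10) V›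
  letI : DistribMulAction (Alt T14.ctx.n) V := ‹DistribMulAction (Alt 10) V›
  letI : DistribMulAction (Alt T41.ctx.n) V := ‹DistribMulAction (Alt 10) V›
  letI : DistribMulAction (Alt T42.ctx.n) V := ‹DistribMulAction (Alt 10) V›
  letI : DistribMulAction (Alt T43.ctx.n) V := ‹DistribMulAction (Alt 10) V›
  letI : DistribMulAction (Alt T44.ctx.n) V := ‹DistribMulAction (Alt 10) V›
  have hc : E cC x = (lam * lam) • x := by
    rw [← ss, hs, E_nsmul, hs, ← mul_nsmul']
  have ha : E cA x = 1 • x := by rw [one_nsmul]; exact hx.1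
  have hb : E cB x = 1 • x := by rw [one_nsmul]; exact hx.2
  have hr : ∀ a b : ℕ, a % 5 = b % 5 → a • x = b • x := fun a b h => by
    rw [← Nat.mod_add_div a 5, ← Nat.mod_add_div b 5, add_nsmul, add_nsmul, mul_comm 5, mul_comm 5,
      mul_nsmul, mul_nsmul, hp, hp, h]
  fin_cases hl <;> rcases he with rfl | rfl <;> (try rw [hr (_ * _) 1 (by decide)] at hc) <;>
    (try rw [hr (_ * _) 4 (by decide)] at hc)
  all_goals first
    | (refine T11.zero Nat.prime_five hp hn x ?_; intro g hg; simp only [T11.ctx, List.mem_cons, List.not_mem_nil, or_false] at hg; rcases hg with rfl | rfl | rfl | rfl | rfl | rfl; exacts [ha, hb, hi, hj, hc, hs])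
    | (refine T12.zero Nat.prime_five hp hn x ?_; intro g hg; simp only [T12.ctx, List.mem_cons, List.not_mem_nil, or_false] at hg; rcases hg with rfl | rfl | rfl | rfl | rfl | rfl; exacts [ha, hb, hi, hj, hc, hs])
    | (refine T13.zero Nat.prime_five hp hn x ?_; intro g hg; simp only [T13.ctx, List.mem_cons, List.not_mem_nil, or_false] at hg; rcases hg with rfl | rfl | rfl | rfl | rfl | rfl; exacts [ha, hb, hi, hj, hc, hs])
    | (refine T14.zero Nat.prime_five hp hn x ?_; intro g hg; simp only [T14.ctx, List.mem_cons, List.not_mem_nil, or_false] at hg; rcases hg with rfl | rfl | rfl | rfl | rfl | rfl; exacts [ha, hb, hi, hj, hc, hs])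
    | (refine T41.zero Nat.prime_five hp hn x ?_; intro g hg; simp only [T41.ctx, List.mem_cons, List.not_mem_nil, or_false] at hg; rcases hg with rfl | rfl | rfl | rfl | rfl | rfl; exacts [ha, hb, hi, hj, hc, hs])
    | (refine T42.zero Nat.prime_five hp hn x ?_; intro g hg; simp only [T42.ctx, List.mem_cons, List.not_mem_nil, or_false] at hg; rcases hg with rfl | rfl | rfl | rfl | rfl | rfl; exacts [ha, hb, hi, hj, hc, hs])
    | (refine T43.zero Nat.prime_five hp hn x ?_; intro g hg; simp only [T43.ctx, List.mem_cons, List.not_mem_nil, or_false] at hg; rcases hg with rfl | rfl | rfl | rfl | rfl | rfl; exacts [ha, hb, hi, hj, hc, hs])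
    | (refine T44.zero Nat.prime_five hp hn x ?_; intro g hg; simp only [T44.ctx, List.mem_cons, List.not_mem_nil, or_false] at hg; rcases hg with rfl | rfl | rfl | rfl | rfl | rfl; exacts [ha, hb, hi, hj, hc, hs])

theorem common_zero {e : ℕ} (he : e = 1 ∨ e = 4) {u : V} (hu : PF u)
    (hi : E cI u = e • u) (hj : E cJ u = e • u) : u = 0 := by
  let _ : Module (ZMod 5) V := AddCommGroup.zmodModule hp
  have hcomm : ∀ (c m : ℕ) (w : V), E c (m • w) = m • E c w := fun c m w => E_nsmul c m w
  have hadd : ∀ (c : ℕ) (u w : V), E c (u + w) = E c u + E c w := fun c u w => E_add c u w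
  have hiS : ∀ w : V, E cI w = e • w → E cJ w = e • w → E cI (E cS w) = e • E cS w ∧ E cJ (E cS w) = e • E cS w :=
    fun w h1 h2 => ⟨by rw [iS, h2, hcomm], by rw [jS, h1, hcomm]⟩
  have q1 := hiS u hi hj
  have q2 := hiS _ q1.1 q1.2
  have q3 := hiS _ q2.1 q2.2
  have h4 : E cS (E cS (E cS (E cS u))) = u := by
    rw [ss, ss, cc, hj, hcomm, hi, ← mul_nsmul']
    rcases he with rfl | rfl
    · exact one_nsmul u
    · rw [show 4 * 4 = 1 + 5 * 3 from rfl, add_nsmul, mul_comm 5, mul_nsmul, hp, add_zero, one_nsmul]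
  have hx : ∀ lam mu : ℕ, lam ∈ [1, 2, 3, 4] → (lam * mu) % 5 = 1 →
      u + mu • E cS u + (mu * mu) • E cS (E cS u) + (mu * mu * mu) • E cS (E cS (E cS u)) = 0 := by
    intro lam mu hl hmu
    refine common_case hp hn he hl (pf_add (pf_add (pf_add hu (pf_nsmul _ (pfS hu)))
      (pf_nsmul _ (pfS (pfS hu)))) (pf_nsmul _ (pfS (pfS (pfS hu))))) ?_ ?_ ?_
    · simp only [hadd, hcomm, hi, q1.1, q2.1, q3.1, smul_add, smul_smul, mul_comm e]
    · simp only [hadd, hcomm, hj, q1.2, q2.2, q3.2, smul_add, smul_smul, mul_comm e]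
    · have hm : (lam : ZMod 5) * mu = 1 := by
        rw [← Nat.cast_mul, ← ZMod.natCast_mod, hmu, Nat.cast_one]
      simp only [hadd, hcomm, h4]
      simp only [← Nat.cast_smul_eq_nsmul (ZMod 5), smul_add, smul_smul, Nat.cast_mul]
      have hl4 : (mu : ZMod 5) ^ 4 = 1 := by
        have h0 : (mu : ZMod 5) ≠ 0 := fun h => by rw [h, mul_zero] at hm; exact absurd hm (by decide)
        revert h0
        generalize (mu : ZMod 5) = z
        revert z
        decide
      generalize E cS (E cS (E cS u)) = u3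
      generalize E cS (E cS u) = u2
      generalize E cS u = u1
      match_scalars <;> first
        | linear_combination hl4 * (lam : ZMod 5) - ((mu : ZMod 5) ^ 3) * hm
        | linear_combination -hm
        | linear_combination -(mu : ZMod 5) * hm
        | linear_combination -((mu : ZMod 5) ^ 2) * hm
  have s1 := hx 1 1 (by simp) rfl
  have s2 := hx 2 3 (by simp) rfl
  have s3 := hx 3 2 (by simp) rfl
  have s4 := hx 4 4 (by simp) rfl
  simp only [← Nat.cast_smul_eq_nsmul (ZMod 5), Nat.cast_mul] at s1 s2 s3 s4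
  generalize E cS (E cS (E cS u)) = u3 at s1 s2 s3 s4
  generalize E cS (E cS u) = u2 at s1 s2 s3 s4
  generalize E cS u = u1 at s1 s2 s3 s4
  have : (4 : ZMod 5) • u = 0 := by
    linear_combination (norm := skip) s1 + s2 + s3 + s4
    match_scalars <;> decide
  have h' := congrArg (fun w => (4 : ZMod 5) • w) this
  simpa [smul_smul, show (4 : ZMod 5) * 4 = 1 by decide] using h'

theorem trace {w : V} (ha : E cA w = w) (hb : E cB w = w) : w + E cIJ w = 0 := by
  have hcomm : ∀ (c m : ℕ) (w : V), E c (m • w) = m • E c w := fun c m w => E_nsmul c m w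
  have hadd : ∀ (c : ℕ) (u w : V), E c (u + w) = E c u + E c w := fun c u w => E_add c u w
  have hw : PF w := ⟨ha, hb⟩
  have hk : E cIJ w = E cI (E cJ w) := act (l := [cIJ]) (m := [cI, cJ]) (by decide +kernel) w
  rw [hk]
  have f : ∀ m : ℕ, (m = 1 ∨ m = 4) → w + E cI (E cJ w) + m • (E cI w + E cJ w) = 0 := by
    intro m hm
    have hmm : ∀ u : V, (m * m) • u = u := by
      intro u
      rcases hm with rfl | rfl
      · exact one_nsmul u
      · rw [show 4 * 4 = 1 + 5 * 3 from rfl, add_nsmul, mul_comm 5, mul_nsmul, hp, add_zero, one_nsmul]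
    have hP : PF (w + E cI (E cJ w) + m • (E cI w + E cJ w)) :=
      pf_add (pf_add hw (pfI (pfJ hw))) (pf_nsmul _ (pf_add (pfI hw) (pfJ hw)))
    refine common_zero hp hn hm hP ?_ ?_
    · simp only [hadd, hcomm, ii, smul_add, ← mul_nsmul', hmm]
      abel
    · simp only [hadd, hcomm, ← ij, jj, smul_add, ← mul_nsmul', hmm]
      abel
  calc w + E cI (E cJ w)
      = 3 • ((w + E cI (E cJ w) + 1 • (E cI w + E cJ w)) + (w + E cI (E cJ w) + 4 • (E cI w + E cJ w)))
          - 5 • (w + E cI (E cJ w) + 3 • (E cI w + E cJ w)) := by abel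
    _ = 0 := by rw [f 1 (Or.inl rfl), f 4 (Or.inr rfl), hp]; simp

theorem mixed_case {g : ℕ} (hg : g = 2 ∨ g = 3) {x : V} (hx : PF x) (hi : E cI x = x)
    (hj : E cJ x = 4 • x) (hc : E cC x = g • x) : x = 0 := by
  letI : DistribMulAction (Alt M2.ctx.n) V := ‹DistribMulAction (Alt 10) V›
  letI : DistribMulAction (Alt M3.ctx.n) V := ‹DistribMulAction (Alt 10) V›
  have ha : E cA x = 1 • x := by rw [one_nsmul]; exact hx.1
  have hb : E cB x = 1 • x := by rw [one_nsmul]; exact hx.2
  have hi' : E cI x = 1 • x := by rw [one_nsmul]; exact hi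
  rcases hg with rfl | rfl
  · refine M2.zero Nat.prime_five hp hn x (fun w => trace hp hn (w := w)) ?_
    intro g hg; simp only [M2.ctx, List.mem_cons, List.not_mem_nil, or_false] at hg
    rcases hg with rfl | rfl | rfl | rfl | rfl
    exacts [ha, hb, hi', hj, hc]
  · refine M3.zero Nat.prime_five hp hn x (fun w => trace hp hn (w := w)) ?_
    intro g hg; simp only [M3.ctx, List.mem_cons, List.not_mem_nil, or_false] at hg
    rcases hg with rfl | rfl | rfl | rfl | rfl
    exacts [ha, hb, hi', hj, hc]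

theorem mixed_zero {u : V} (hu : PF u) (hi : E cI u = u) (hj : E cJ u = 4 • u) : u = 0 := by
  have hcomm : ∀ (c m : ℕ) (w : V), E c (m • w) = m • E c w := fun c m w => E_nsmul c m w
  have hadd : ∀ (c : ℕ) (u w : V), E c (u + w) = E c u + E c w := fun c u w => E_add c u w
  have hi1 : E cI (E cC u) = E cC u := by rw [iC, hi]
  have hj1 : E cJ (E cC u) = 4 • E cC u := by rw [jC, hj, hcomm]
  have hcc : E cC (E cC u) = 4 • u := by rw [cc, hj, hcomm, hi]
  have h2 : u + 3 • E cC u = 0 := by
    refine mixed_case hp hn (Or.inl rfl) (pf_add hu (pf_nsmul _ (pfC hu))) ?_ ?_ ?_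
    · rw [hadd, hcomm, hi, hi1]
    · rw [hadd, hcomm, hj, hj1, smul_add, smul_comm 4 3]
    · rw [hadd, hcomm, hcc, smul_add, ← mul_nsmul', ← mul_nsmul']
      have := hp (E cC u)
      have := hp u
      calc E cC u + 12 • u = E cC u + 2 • u + 2 • (5 • u) := by abel
        _ = E cC u + 2 • u + 5 • E cC u := by simp [hp]
        _ = 2 • u + 6 • E cC u := by abel
  have h3 : u + 2 • E cC u = 0 := by
    refine mixed_case hp hn (Or.inr rfl) (pf_add hu (pf_nsmul _ (pfC hu))) ?_ ?_ ?_
    · rw [hadd, hcomm, hi, hi1]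
    · rw [hadd, hcomm, hj, hj1, smul_add, smul_comm 4 2]
    · rw [hadd, hcomm, hcc, smul_add, ← mul_nsmul', ← mul_nsmul']
      calc E cC u + 8 • u = E cC u + 3 • u + 5 • u := by abel
        _ = E cC u + 3 • u + 5 • E cC u := by simp [hp]
        _ = 3 • u + 6 • E cC u := by abel
  calc u = 3 • ((u + 3 • E cC u) + (u + 2 • E cC u)) - (5 • u + 3 • (5 • E cC u)) := by abel
    _ = 0 := by rw [h2, h3, hp, hp]; simp

/-- Every vector fixed by the two cycles is zero. -/
theorem pf_zero {w : V} (hw : PF w) : w = 0 := by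
  have hcomm : ∀ (c m : ℕ) (w : V), E c (m • w) = m • E c w := fun c m w => E_nsmul c m w
  have hadd : ∀ (c : ℕ) (u w : V), E c (u + w) = E c u + E c w := fun c u w => E_add c u w
  have key : ∀ z : V, PF z → ∀ e : ℕ, (e = 1 ∨ e = 4) → E cI z = e • z → z = 0 := by
    intro z hz e he hi
    have f : ∀ m : ℕ, (m = 1 ∨ m = 4) → z + m • E cJ z = 0 := by
      intro m hm
      have hee : (m * m) • z = z := by
        rcases hm with rfl | rfl
        · exact one_nsmul z
        · rw [show 4 * 4 = 1 + 5 * 3 from rfl, add_nsmul, mul_comm 5, mul_nsmul, hp, add_zero, one_nsmul]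
      have hj : E cJ (z + m • E cJ z) = m • (z + m • E cJ z) := by
        rw [hadd, hcomm, jj, smul_add, ← mul_nsmul']
        have : (m * m) • E cJ z = E cJ z := by rw [← hcomm, hee]
        rw [this, add_comm]
      have hI : E cI (z + m • E cJ z) = e • (z + m • E cJ z) := by
        rw [hadd, hcomm, ij, hi, hcomm, smul_add, smul_comm m e]
      have hP : PF (z + m • E cJ z) := pf_add hz (pf_nsmul _ (pfJ hz))
      rcases he with rfl | rfl <;> rcases hm with rfl | rfl
      · exact common_zero hp hn (Or.inl rfl) hP hI hj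
      · exact mixed_zero hp hn hP (by rw [hI, one_nsmul]) hj
      · have h0 : E cS (z + 1 • E cJ z) = 0 := by
          refine mixed_zero hp hn (pfS hP) ?_ ?_
          · rw [iS, hj, one_nsmul]
          · rw [jS, hI, hcomm]
        exact (smul_eq_zero_iff_eq (el 10 cS)).1 h0
      · exact common_zero hp hn (Or.inr rfl) hP hI hj
    calc z = 3 • ((z + 1 • E cJ z) + (z + 4 • E cJ z)) - (5 • z + 3 • (5 • E cJ z)) := by abel
      _ = 0 := by rw [f 1 (Or.inl rfl), f 4 (Or.inr rfl), hp, hp]; simp
  have f : ∀ m : ℕ, (m = 1 ∨ m = 4) → w + m • E cI w = 0 := by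
    intro m hm
    refine key _ (pf_add hw (pf_nsmul _ (pfI hw))) m hm ?_
    rw [hadd, hcomm, ii, smul_add, ← mul_nsmul']
    rcases hm with rfl | rfl
    · rw [one_mul, one_nsmul, one_nsmul, add_comm]
    · rw [show 4 * 4 = 1 + 5 * 3 from rfl, add_nsmul, mul_comm 5, mul_nsmul, hp, add_zero, one_nsmul, add_comm]
  calc w = 3 • ((w + 1 • E cI w) + (w + 4 • E cI w)) - (5 • w + 3 • (5 • E cI w)) := by abel
    _ = 0 := by rw [f 1 (Or.inl rfl), f 4 (Or.inr rfl), hp, hp]; simp

theorem all_zero (v : V) : v = 0 := by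
  by_contra hv
  obtain ⟨w, hwA, hw0, hfix⟩ := exists_fixed_of_orderFive hp (el 10 cA)
    (fun w => act (l := [cA, cA, cA, cA, cA]) (m := []) (by decide +kernel) w) (fun _ => True)
    (fun _ _ _ _ => trivial) (fun _ _ => trivial) (v := v) trivial hv
  obtain ⟨x, hx, hx0, hxB⟩ := exists_fixed_of_orderFive hp (el 10 cB)
    (fun w => act (l := [cB, cB, cB, cB, cB]) (m := []) (by decide +kernel) w) (fun w => el 10 cA • w = w)
    (fun u z hu hz => by rw [smul_sub, hu, hz])
    (fun z hz => by
      have := act (l := [cA, cB]) (m := [cB, cA]) (by decide +kernel) z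
      simp only [List.foldr_cons, List.foldr_nil] at this
      simp only [E] at this
      rw [this, hz])
    (v := w) hfix hw0
  exact hx0 (pf_zero hp hn ⟨hx, hxB⟩)

end

end Cfsg.Agent.AltCentCert.Ten
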