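import Cfsg.Agent.AltCentCert.Words
import Cfsg.Agent.AltCentCert.N1
import Cfsg.Agent.AltCentCert.N2
import Cfsg.Agent.AltCentCert.N3
import Cfsg.Agent.AltCentCert.NU

/-!
In a non-zero module over two elements for the alternating group on nine points, some non-zero vector
is fixed by two elements generating a non-solvable subgroup.
-/

set_option autoImplicit false
set_option linter.style.longLine false

namespace Cfsg.Agent.AltCentCert.Nine

abbrev t1 : ℕ := 36344963841
abbrev t2 : ℕ := 36344959026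
abbrev t3 : ℕ := 36092326416
abbrev t4 : ℕ := 35776770576
abbrev t5 : ℕ := 36343984641
abbrev t6 : ℕ := 35199678036
abbrev cE : ℕ := 36344967696

/-- the witnesses that the three sums are fixed -/
def wits : List (List (List (ℕ × ℕ))) :=
  [[[(0,1),(1,10),(2,5)], [(0,2),(2,14),(1,21)], [(0,3),(1,17),(2,28)], [(0,4),(2,45),(1,47)], [(0,5),(1,1),(2,10)], [(0,6),(1,13),(2,63)], [(1,0),(2,0),(0,0)]],
   [[(0,1),(1,7),(2,2)], [(0,2),(1,1),(2,7)], [(0,3),(1,16),(2,4)], [(0,4),(1,3),(2,16)], [(0,5),(2,5),(1,5)], [(0,6),(1,38),(2,63)], [(1,0),(2,0),(0,0)]],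
   [[(0,1),(1,7),(2,2)], [(0,2),(1,1),(2,7)], [(0,3),(1,4),(2,16)], [(0,4),(1,16),(2,3)], [(0,5),(2,5),(1,5)], [(0,6),(2,6),(1,6)], [(1,0),(2,0),(0,0)]]]

/-- the three elements of order three -/
def gs : List ℕ := [36342726981, 36327260721, 35807232561]

/-- the elements that fix the `k`-th sum -/
def fixers (k : ℕ) : List ℕ := [t1, t2, t3, t4, t5, t6, gs.getD k 0]

theorem wits_ok : ((List.range 3).all fun k => (List.range 7).all fun i =>
    NU.ctx.checkFix ((fixers k).getD i 0) (NU.ext.getD k []) ((wits.getD k []).getD i [])) = true := by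
  decide +kernel

theorem ext_ok : (NU.ext.all fun s => s.all fun u => okB 9 u.1) = true := by decide +kernel

theorem fixers_ok : ((List.range 3).all fun k => (fixers k).all fun u => okB 9 u) = true := by decide +kernel

variable {V : Type*} [AddCommGroup V] [DistribMulAction (Alt 9) V]

/-- the action of a coded element -/
noncomputable abbrev E (c : ℕ) (w : V) : V := el 9 c • w

theorem act {l m : List ℕ} (h : wordsB 9 cE l m = true) (w : V) : l.foldr E w = m.foldr E w := by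
  have e : ∀ l : List ℕ, l.foldr E w = (l.map (el 9)).prod • w := by
    intro l
    induction l with
    | nil => simp
    | cons x l ih => rw [List.foldr_cons, ih, List.map_cons, List.prod_cons, mul_smul]
  rw [e, e, words_eq h]

theorem step (hp : ∀ w : V, 2 • w = 0) (c : ℕ) (hc : wordsB 9 cE [c, c] [] = true)
    (P : V → Prop) (hadd : ∀ u w, P u → P w → P (u + w)) (hsmul : ∀ w, P w → P (E c w))
    (h : ∃ w, P w ∧ w ≠ 0) : ∃ w, (P w ∧ E c w = w) ∧ w ≠ 0 := by
  obtain ⟨v, hv, hv0⟩ := h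
  obtain ⟨w, h1, h2, h3⟩ := exists_fixed_of_orderTwo hp (el 9 c) (fun w => act hc w) P hadd hsmul hv hv0
  exact ⟨w, ⟨h1, h3⟩, h2⟩

/-- fixed by the six generators of a Sylow subgroup -/
def UF (w : V) : Prop :=
  E t1 w = w ∧ E t2 w = w ∧ E t3 w = w ∧ E t4 w = w ∧ E t5 w = w ∧ E t6 w = w

theorem exists_uf (hp : ∀ w : V, 2 • w = 0) {v : V} (hv : v ≠ 0) : ∃ w : V, UF w ∧ w ≠ 0 := by
  have hadd : ∀ (c : ℕ) (u w : V), E c u = u → E c w = w → E c (u + w) = u + w :=
    fun c u w h1 h2 => by simp only [E, smul_add]; rw [show el 9 c • u = u from h1, show el 9 c • w = w from h2]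
  obtain ⟨w1, h1, n1⟩ := step hp t1 (by decide +kernel) (fun _ => True) (fun _ _ _ _ => trivial)
    (fun _ _ => trivial) ⟨v, trivial, hv⟩
  obtain ⟨w2, h2, n2⟩ := step hp t2 (by decide +kernel) (fun w => E t1 w = w) (hadd t1)
    (fun w h => (act (l := [t1, t2]) (m := [t2, t1]) (by decide +kernel) w).trans (by
      simp only [List.foldr_cons, List.foldr_nil]; rw [h]))
    ⟨w1, h1.2, n1⟩
  obtain ⟨w3, h3, n3⟩ := step hp t3 (by decide +kernel) (fun w => E t1 w = w ∧ E t2 w = w)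
    (fun u w hu hw => ⟨hadd _ _ _ hu.1 hw.1, hadd _ _ _ hu.2 hw.2⟩)
    (fun w h => ⟨(act (l := [t1, t3]) (m := [t3, t1]) (by decide +kernel) w).trans (by
        simp only [List.foldr_cons, List.foldr_nil]; rw [h.1]),
      (act (l := [t2, t3]) (m := [t3, t2]) (by decide +kernel) w).trans (by
        simp only [List.foldr_cons, List.foldr_nil]; rw [h.2])⟩)
    ⟨w2, h2, n2⟩
  obtain ⟨w4, h4, n4⟩ := step hp t4 (by decide +kernel) (fun w => (E t1 w = w ∧ E t2 w = w) ∧ E t3 w = w)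
    (fun u w hu hw => ⟨⟨hadd _ _ _ hu.1.1 hw.1.1, hadd _ _ _ hu.1.2 hw.1.2⟩, hadd _ _ _ hu.2 hw.2⟩)
    (fun w h => ⟨⟨(act (l := [t1, t4]) (m := [t4, t1]) (by decide +kernel) w).trans (by
        simp only [List.foldr_cons, List.foldr_nil]; rw [h.1.1]),
      (act (l := [t2, t4]) (m := [t4, t2]) (by decide +kernel) w).trans (by
        simp only [List.foldr_cons, List.foldr_nil]; rw [h.1.2])⟩,
      (act (l := [t3, t4]) (m := [t4, t3]) (by decide +kernel) w).trans (by
        simp only [List.foldr_cons, List.foldr_nil]; rw [h.2])⟩)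
    ⟨w3, h3, n3⟩
  obtain ⟨w5, h5, n5⟩ := step hp t5 (by decide +kernel)
    (fun w => ((E t1 w = w ∧ E t2 w = w) ∧ E t3 w = w) ∧ E t4 w = w)
    (fun u w hu hw => ⟨⟨⟨hadd _ _ _ hu.1.1.1 hw.1.1.1, hadd _ _ _ hu.1.1.2 hw.1.1.2⟩,
      hadd _ _ _ hu.1.2 hw.1.2⟩, hadd _ _ _ hu.2 hw.2⟩)
    (fun w h => ⟨⟨⟨(act (l := [t1, t5]) (m := [t5, t1]) (by decide +kernel) w).trans (by
        simp only [List.foldr_cons, List.foldr_nil]; rw [h.1.1.1]),
      (act (l := [t2, t5]) (m := [t5, t1, t2]) (by decide +kernel) w).trans (by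
        simp only [List.foldr_cons, List.foldr_nil]; rw [h.1.1.2, h.1.1.1])⟩,
      (act (l := [t3, t5]) (m := [t5, t3]) (by decide +kernel) w).trans (by
        simp only [List.foldr_cons, List.foldr_nil]; rw [h.1.2])⟩,
      (act (l := [t4, t5]) (m := [t5, t3, t4]) (by decide +kernel) w).trans (by
        simp only [List.foldr_cons, List.foldr_nil]; rw [h.2, h.1.2])⟩)
    ⟨w4, h4, n4⟩
  obtain ⟨w6, h6, n6⟩ := step hp t6 (by decide +kernel)
    (fun w => (((E t1 w = w ∧ E t2 w = w) ∧ E t3 w = w) ∧ E t4 w = w) ∧ E t5 w = w)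
    (fun u w hu hw => ⟨⟨⟨⟨hadd _ _ _ hu.1.1.1.1 hw.1.1.1.1, hadd _ _ _ hu.1.1.1.2 hw.1.1.1.2⟩,
      hadd _ _ _ hu.1.1.2 hw.1.1.2⟩, hadd _ _ _ hu.1.2 hw.1.2⟩, hadd _ _ _ hu.2 hw.2⟩)
    (fun w h => ⟨⟨⟨⟨(act (l := [t1, t6]) (m := [t6, t3]) (by decide +kernel) w).trans (by
        simp only [List.foldr_cons, List.foldr_nil]; rw [h.1.1.2]),
      (act (l := [t2, t6]) (m := [t6, t4]) (by decide +kernel) w).trans (by
        simp only [List.foldr_cons, List.foldr_nil]; rw [h.1.2])⟩,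
      (act (l := [t3, t6]) (m := [t6, t1]) (by decide +kernel) w).trans (by
        simp only [List.foldr_cons, List.foldr_nil]; rw [h.1.1.1.1])⟩,
      (act (l := [t4, t6]) (m := [t6, t2]) (by decide +kernel) w).trans (by
        simp only [List.foldr_cons, List.foldr_nil]; rw [h.1.1.1.2])⟩,
      (act (l := [t5, t6]) (m := [t6, t5]) (by decide +kernel) w).trans (by
        simp only [List.foldr_cons, List.foldr_nil]; rw [h.2])⟩)
    ⟨w5, h5, n5⟩
  obtain ⟨⟨⟨⟨⟨a, b⟩, c⟩, d⟩, e⟩, f⟩ := h6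
  exact ⟨w6, ⟨a, b, c, d, e, f⟩, n6⟩

theorem uf_zero (hp : ∀ w : V, 2 • w = 0) (hn : NoFixed 9 V) {w : V} (hw : UF w) : w = 0 := by
  obtain ⟨h1, h2, h3, h4, h5, h6⟩ := hw
  letI : DistribMulAction (Alt NU.ctx.n) V := ‹DistribMulAction (Alt 9) V›
  letI : DistribMulAction (Alt N1.ctx.n) V := ‹DistribMulAction (Alt 9) V›
  letI : DistribMulAction (Alt N2.ctx.n) V := ‹DistribMulAction (Alt 9) V›
  letI : DistribMulAction (Alt N3.ctx.n) V := ‹DistribMulAction (Alt 9) V›
  have e1 : ∀ x : ℕ, E x w = w → E x w = 1 • w := fun x h => by rw [one_nsmul]; exact h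
  have hgen : ∀ g ∈ NU.ctx.gens, el NU.ctx.n g.1 • w = g.2 • w := by
    intro g hg
    simp only [NU.ctx, List.mem_cons, List.not_mem_nil, or_false] at hg
    rcases hg with rfl | rfl | rfl | rfl | rfl | rfl
    exacts [e1 _ h1, e1 _ h2, e1 _ h3, e1 _ h4, e1 _ h5, e1 _ h6]
  refine NU.zero (by decide) hp hn w ?_ hgen
  intro s hs
  obtain ⟨k, hk, rfl⟩ := List.getElem_of_mem hs
  have hk3 : k < 3 := by simpa [NU.ext] using hk
  have hz : ∀ i, i < 7 → E ((fixers k).getD i 0) (NU.ctx.val NU.ext[k] w) = 1 • NU.ctx.val NU.ext[k] w := by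
    intro i hi
    rw [one_nsmul]
    have h := List.all_eq_true.1 (List.all_eq_true.1 wits_ok k (List.mem_range.2 hk3)) i (List.mem_range.2 hi)
    rw [List.getD_eq_getElem _ _ hk] at h
    have hv : okB 9 ((fixers k).getD i 0) = true := by
      refine List.all_eq_true.1 (List.all_eq_true.1 fixers_ok k (List.mem_range.2 hk3)) _ ?_
      rw [List.getD_eq_getElem _ _ (show i < (fixers k).length by simpa [fixers] using hi)]
      exact List.getElem_mem _
    exact Ctx.val_fixed hp hgen NU.okK (valid_of_okB hv)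
      (fun e he => valid_of_okB (List.all_eq_true.1 (List.all_eq_true.1 ext_ok _ hs) e he)) h
  have g1 := hz 0 (by decide)
  have g2 := hz 1 (by decide)
  have g3 := hz 2 (by decide)
  have g4 := hz 3 (by decide)
  have g5 := hz 4 (by decide)
  have g6 := hz 5 (by decide)
  have g7 := hz 6 (by decide)
  rcases (show k = 0 ∨ k = 1 ∨ k = 2 by omega) with rfl | rfl | rfl
  · refine N1.zero (by decide) hp hn _ ?_
    intro g hg
    simp only [N1.ctx, List.mem_cons, List.not_mem_nil, or_false] at hg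
    rcases hg with rfl | rfl | rfl | rfl | rfl | rfl | rfl
    exacts [g1, g2, g3, g4, g5, g6, g7]
  · refine N2.zero (by decide) hp hn _ ?_
    intro g hg
    simp only [N2.ctx, List.mem_cons, List.not_mem_nil, or_false] at hg
    rcases hg with rfl | rfl | rfl | rfl | rfl | rfl | rfl
    exacts [g1, g2, g3, g4, g5, g6, g7]
  · refine N3.zero (by decide) hp hn _ ?_
    intro g hg
    simp only [N3.ctx, List.mem_cons, List.not_mem_nil, or_false] at hg
    rcases hg with rfl | rfl | rfl | rfl | rfl | rfl | rfl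
    exacts [g1, g2, g3, g4, g5, g6, g7]

theorem all_zero (hp : ∀ w : V, 2 • w = 0) (hn : NoFixed 9 V) (v : V) : v = 0 := by
  by_contra hv
  obtain ⟨w, h1, h2⟩ := exists_uf hp hv
  exact h2 (uf_zero hp hn h1)

end Cfsg.Agent.AltCentCert.Nine
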