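import Cfsg.Agent.AltCentCert.Sound

/-!
Relations that hold when no non-zero vector is fixed by a non-solvable two-generated subgroup.
-/

set_option autoImplicit false

namespace Cfsg.Agent.AltCentCert

/-- a combination with two elements fixing it, and the witnesses of this -/
structure SH where
  T : List (ℕ × ℕ)
  a : ℕ
  b : ℕ
  r : ℕ
  wa : List (ℕ × ℕ)
  wb : List (ℕ × ℕ)

theorem not_isSolvable_of_237 {G : Type*} [Group G] {a b : G} {r : ℕ} (ha : a * a = 1)
    (hb : b * b * b = 1) (hab : (a * b) ^ r = 1) (hr : r = 5 ∨ r = 7) (hne : a ≠ 1) :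
    ¬ Group.IsSolvable (Subgroup.closure ({a, b} : Set G)) := by
  intro hsol
  let H := Subgroup.closure ({a, b} : Set G)
  let x : H := ⟨a, Subgroup.subset_closure (Set.mem_insert a _)⟩
  let y : H := ⟨b, Subgroup.subset_closure (Set.mem_insert_of_mem _ rfl)⟩
  have hx : x * x = 1 := Subtype.ext ha
  have hy : y * y * y = 1 := Subtype.ext hb
  have hxy : (x * y) ^ r = 1 := Subtype.ext (by simp [x, y, hab])
  have key : ∀ {A : Type _} [CommGroup A] (f : H →* A), f x = 1 ∧ f y = 1 := by
    intro A _ f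
    have e1 : f x ^ 2 = 1 := by rw [pow_two, ← map_mul, hx, map_one]
    have e2 : f y ^ 3 = 1 := by rw [pow_succ, pow_two, ← map_mul, ← map_mul, hy, map_one]
    have e3 : f x ^ r * f y ^ r = 1 := by rw [← mul_pow, ← map_mul, ← map_pow, hxy, map_one]
    have h6 : ∀ z : A, z = f x → z = 1 := by
      rintro z rfl
      have h3 : (f x ^ r * f y ^ r) ^ 3 = 1 := by rw [e3, one_pow]
      rw [mul_pow, ← pow_mul, ← pow_mul (f y), mul_comm r 3, pow_mul (f y), e2, one_pow, mul_one] at h3
      rcases hr with rfl | rfl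
      · rw [show 3 * 5 = 2 * 7 + 1 from rfl, pow_succ, pow_mul, e1, one_pow, one_mul] at h3; exact h3
      · rw [show 3 * 7 = 2 * 10 + 1 from rfl, pow_succ, pow_mul, e1, one_pow, one_mul] at h3; exact h3
    have hfx := h6 _ rfl
    refine ⟨hfx, ?_⟩
    rw [hfx, one_pow, one_mul] at e3
    rcases hr with rfl | rfl
    · have e : f y ^ (3 * 2) = 1 := by rw [pow_mul, e2, one_pow]
      rw [show 3 * 2 = 5 + 1 from rfl, pow_succ, e3, one_mul] at e; exact e
    · have e : f y ^ (3 * 2) = 1 := by rw [pow_mul, e2, one_pow]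
      rw [show 7 = 3 * 2 + 1 from rfl, pow_succ, e, one_mul] at e3; exact e3
  haveI : Group.IsSolvable H := hsol
  by_cases htop : commutator H = ⊤
  · have : (⊤ : Subgroup H) = ⊥ := by
      obtain ⟨k, hk⟩ := hsol.solvable
      have : ∀ m, derivedSeries H m = ⊤ := by
        intro m
        induction m with
        | zero => rfl
        | succ m ih => rw [derivedSeries_succ, ih]; exact htop
      rw [← this k, hk]
    have hm : x ∈ (⊥ : Subgroup H) := this ▸ Subgroup.mem_top x
    exact hne (congrArg Subtype.val (Subgroup.mem_bot.1 hm))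
  · apply htop
    have k := key (Abelianization.of (G := H))
    rw [eq_top_iff]
    intro z hz0
    clear hz0
    rw [← Abelianization.ker_of (G := H), MonoidHom.mem_ker]
    obtain ⟨z, hz⟩ := z
    induction hz using Subgroup.closure_induction with
    | mem u hu =>
      rcases hu with rfl | rfl
      · exact k.1
      · exact k.2
    | one => exact map_one _
    | mul u w hu hw iu iw =>
      show Abelianization.of ((⟨u, hu⟩ : H) * ⟨w, hw⟩) = 1
      rw [map_mul, iu, iw, one_mul]
    | inv u hu iu =>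
      show Abelianization.of ((⟨u, hu⟩ : H)⁻¹) = 1
      rw [map_inv, iu, inv_one]

namespace Ctx

variable (D : Ctx)

/-- the test for a relation with fixed elements generating a non-solvable subgroup -/
def checkH (e : SH) : Bool :=
  (e.T.all fun u => okB D.n u.1) && okB D.n e.a && okB D.n e.b &&
    (comp e.a D.n e.a == D.one) && (comp (comp e.b D.n e.b) D.n e.b == D.one) &&
    decide (e.r = 5 ∨ e.r = 7) && decide (e.a ≠ D.one) &&
    ((List.range e.r).foldl (fun z _ => comp z D.n (comp e.a D.n e.b)) D.one == D.one) &&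
    D.checkFix e.a e.T e.wa && D.checkFix e.b e.T e.wb

/-- the test for a relation fixed by two given elements -/
def checkP (a b : ℕ) (e : List (ℕ × ℕ) × List (ℕ × ℕ) × List (ℕ × ℕ)) : Bool :=
  (e.1.all fun u => okB D.n u.1) && D.checkFix a e.1 e.2.1 && D.checkFix b e.1 e.2.2

/-- a combination and its image -/
def pairSeed (j : ℕ) (T : List (ℕ × ℕ)) : List (ℕ × ℕ) :=
  T ++ T.map fun u => (comp j D.n u.1, u.2)

variable {D} {V : Type*} [AddCommGroup V] [DistribMulAction (Alt D.n) V]

theorem el_one (hK : D.checkK = true) : Valid D.n D.one ∧ el D.n D.one = 1 := by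
  simp only [checkK, Bool.and_eq_true, decide_eq_true_eq] at hK
  have hv := valid_of_okB hK.1.1.1.2
  exact ⟨hv, el_eq hv.1 (by rw [hK.1.1.2]; rfl)⟩

theorem val_pairSeed {j : ℕ} (hj : Valid D.n j) {T : List (ℕ × ℕ)} (hT : ∀ e ∈ T, Valid D.n e.1)
    (v : V) : D.val (D.pairSeed j T) v = D.val T v + el D.n j • D.val T v := by
  simp only [val, pairSeed, List.map_append, List.sum_append, List.map_map]
  congr 1
  induction T with
  | nil => simp
  | cons u T ih =>
    simp only [List.map_cons, List.sum_cons, smul_add, Function.comp_apply]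
    rw [ih fun e he => hT e (List.mem_cons_of_mem _ he), (hj.comp (hT u List.mem_cons_self)).2,
      mul_smul, smul_nsmul_comm]

theorem val_eq_zero_of_checkH (hp : ∀ w : V, D.p • w = 0) {v : V}
    (hgen : ∀ g ∈ D.gens, el D.n g.1 • v = g.2 • v) (hn : NoFixed D.n V) (hK : D.checkK = true)
    {e : SH} (h : D.checkH e = true) : D.val e.T v = 0 ∧ ∀ u ∈ e.T, Valid D.n u.1 := by
  simp only [checkH, Bool.and_eq_true, beq_iff_eq, decide_eq_true_eq, List.all_eq_true] at h
  obtain ⟨⟨⟨⟨⟨⟨⟨⟨⟨hT, ha⟩, hb⟩, haa⟩, hbb⟩, hr⟩, hne⟩, hab⟩, fa⟩, fb⟩ := h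
  have hT' : ∀ u ∈ e.T, Valid D.n u.1 := fun u hu => valid_of_okB (hT u hu)
  refine ⟨?_, hT'⟩
  have va := valid_of_okB ha
  have vb := valid_of_okB hb
  obtain ⟨v1, e1⟩ := el_one hK
  refine hn (el D.n e.a) (el D.n e.b) ?_ _ (val_fixed hp hgen hK va hT' fa) (val_fixed hp hgen hK vb hT' fb)
  refine not_isSolvable_of_237 ?_ ?_ ?_ hr ?_
  · rw [← (va.comp va).2, haa, e1]
  · rw [← (vb.comp vb).2, ← ((vb.comp vb).1.comp vb).2, hbb, e1]
  · have hpow : ∀ m, Valid D.n ((List.range m).foldl (fun z _ => comp z D.n (comp e.a D.n e.b)) D.one) ∧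
        el D.n ((List.range m).foldl (fun z _ => comp z D.n (comp e.a D.n e.b)) D.one) =
          (el D.n e.a * el D.n e.b) ^ m := by
      intro m
      induction m with
      | zero => exact ⟨v1, by rw [pow_zero]; exact e1⟩
      | succ m ih =>
        simp only [List.range_succ, List.foldl_append, List.foldl_cons, List.foldl_nil]
        obtain ⟨h1, h2⟩ := ih.1.comp (va.comp vb).1
        exact ⟨h1, by rw [h2, ih.2, (va.comp vb).2, pow_succ]⟩
    rw [← (hpow e.r).2, hab, e1]
  · intro h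
    exact hne (by rw [← va.2, h, ← e1, v1.2])

theorem val_eq_zero_of_checkP (hp : ∀ w : V, D.p • w = 0) {v : V}
    (hgen : ∀ g ∈ D.gens, el D.n g.1 • v = g.2 • v) (hK : D.checkK = true) {a b j : ℕ}
    (ha : Valid D.n a) (hb : Valid D.n b) (hj : Valid D.n j)
    (hP : ∀ w : V, el D.n a • w = w → el D.n b • w = w → w + el D.n j • w = 0)
    {e : List (ℕ × ℕ) × List (ℕ × ℕ) × List (ℕ × ℕ)} (h : D.checkP a b e = true) :
    D.val (D.pairSeed j e.1) v = 0 ∧ ∀ u ∈ D.pairSeed j e.1, Valid D.n u.1 := by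
  simp only [checkP, Bool.and_eq_true, List.all_eq_true] at h
  obtain ⟨⟨hT, fa⟩, fb⟩ := h
  have hT' : ∀ u ∈ e.1, Valid D.n u.1 := fun u hu => valid_of_okB (hT u hu)
  refine ⟨?_, fun u hu => ?_⟩
  · rw [val_pairSeed hj hT']
    exact hP _ (val_fixed hp hgen hK ha hT' fa) (val_fixed hp hgen hK hb hT' fb)
  · simp only [pairSeed, List.mem_append, List.mem_map] at hu
    rcases hu with hu | ⟨z, hz, rfl⟩
    · exact hT' u hu
    · exact (hj.comp (hT' z hz)).1

/-- Relations of the two kinds, in one list. -/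
theorem seeds_eq_zero (hp : ∀ w : V, D.p • w = 0) {v : V}
    (hgen : ∀ g ∈ D.gens, el D.n g.1 • v = g.2 • v) (hn : NoFixed D.n V) (hK : D.checkK = true)
    {sh : List SH} (hsh : (sh.all fun e => D.checkH e) = true) {other : List (List (ℕ × ℕ))}
    (ho : ∀ s ∈ other, D.val s v = 0 ∧ ∀ u ∈ s, Valid D.n u.1) :
    (∀ s ∈ sh.map SH.T ++ other, ∀ u ∈ s, Valid D.n u.1) ∧
      ∀ s ∈ sh.map SH.T ++ other, D.val s v = 0 := by
  have key : ∀ s ∈ sh.map SH.T ++ other, D.val s v = 0 ∧ ∀ u ∈ s, Valid D.n u.1 := by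
    intro s hs
    rcases List.mem_append.1 hs with hs | hs
    · obtain ⟨e, he, rfl⟩ := List.mem_map.1 hs
      exact val_eq_zero_of_checkH hp hgen hn hK (List.all_eq_true.1 hsh e he)
    · exact ho s hs
  exact ⟨fun s hs => (key s hs).2, fun s hs => (key s hs).1⟩

end Ctx

end Cfsg.Agent.AltCentCert
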