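import Cfsg.Agent.AltCentCert.Check

/-!
Soundness of the checker.
-/

set_option autoImplicit false

namespace Cfsg.Agent.AltCentCert

/-- no non-zero vector is fixed by two elements generating a non-solvable subgroup -/
def NoFixed (n : ℕ) (V : Type*) [AddCommGroup V] [DistribMulAction (Alt n) V] : Prop :=
  ∀ a b : Alt n, ¬ Group.IsSolvable (Subgroup.closure ({a, b} : Set (Alt n))) →
    ∀ w : V, a • w = w → b • w = w → w = 0

namespace Ctx

variable (D : Ctx) {V : Type*} [AddCommGroup V] [DistribMulAction (Alt D.n) V]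

/-- the value of a combination at `v` -/
noncomputable def val (T : List (ℕ × ℕ)) (v : V) : V :=
  (T.map fun e => e.2 • (el D.n e.1 • v)).sum

variable {D}

theorem smul_nsmul_comm {g : Alt D.n} (m : ℕ) (w : V) : g • (m • w) = m • (g • w) :=
  map_nsmul (DistribSMul.toAddMonoidHom V g) m w

theorem mod_nsmul (hp : ∀ w : V, D.p • w = 0) (a : ℕ) (w : V) : (a % D.p) • w = a • w := by
  conv_rhs => rw [← Nat.mod_add_div a D.p]
  rw [add_nsmul, mul_comm D.p, mul_nsmul, hp, add_zero]

theorem nsmul_congr (hp : ∀ w : V, D.p • w = 0) {a b : ℕ} (h : a % D.p = b % D.p) (w : V) :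
    a • w = b • w := by
  rw [← mod_nsmul hp a, h, mod_nsmul hp]

theorem eq_zero_of_nsmul (hpr : D.p.Prime) (hp : ∀ w : V, D.p • w = 0) {a : ℕ} (ha : a % D.p ≠ 0)
    {w : V} (h : a • w = 0) : w = 0 := by
  have hc : a.Coprime D.p :=
    ((Nat.Prime.coprime_iff_not_dvd hpr).2 fun hd => ha (Nat.mod_eq_zero_of_dvd hd)).symm
  obtain ⟨x, -, hx⟩ := Nat.exists_mul_mod_eq_one_of_coprime hc hpr.one_lt
  have h1 : (a * x) • w = 0 := by rw [mul_comm, mul_nsmul', h, smul_zero]
  rwa [← mod_nsmul hp, hx, one_nsmul] at h1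

variable (hp : ∀ w : V, D.p • w = 0) {v : V}
  (hgen : ∀ g ∈ D.gens, el D.n g.1 • v = g.2 • v)

section
include hp hgen

theorem kTable (hK : D.checkK = true) :
    ∀ i, i < D.ksize → Valid D.n (D.kc i) ∧ el D.n (D.kc i) • v = D.kv i • v := by
  simp only [checkK, Bool.and_eq_true, decide_eq_true_eq, List.all_eq_true, List.mem_range] at hK
  obtain ⟨⟨⟨⟨-, h1⟩, hone⟩, hg⟩, hall⟩ := hK
  intro i
  induction i using Nat.strong_induction_on with
  | _ i ih =>
    intro hi
    have h := hall i hi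
    by_cases h0 : i = 0
    · subst h0
      simp only [if_true, Bool.and_eq_true, beq_iff_eq] at h
      have hv := valid_of_okB h1
      have he : el D.n D.one = 1 := el_eq hv.1 (by rw [hone]; rfl)
      rw [h.1, h.2, he, one_smul, one_nsmul]
      exact ⟨hv, rfl⟩
    · simp only [if_neg h0, Bool.and_eq_true, beq_iff_eq, decide_eq_true_eq] at h
      obtain ⟨⟨⟨hpar, hgl⟩, hc⟩, hv⟩ := h
      obtain ⟨hvp, hep⟩ := ih _ hpar (hpar.trans hi)
      have hmem := List.getElem_mem (l := D.gens) hgl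
      rw [← List.getD_eq_getElem (l := D.gens) (0, 0) hgl] at hmem
      obtain ⟨hvc, hec⟩ := hvp.comp (valid_of_okB (hg _ hmem))
      rw [hc, hv, hec, mul_smul, hgen _ hmem, smul_nsmul_comm _ v, hep]
      refine ⟨hvc, ?_⟩
      rw [mod_nsmul hp, mul_nsmul', ← mul_nsmul', ← mul_nsmul', mul_comm]

theorem val_fixed (hK : D.checkK = true) {a : ℕ} (ha : Valid D.n a) {T w : List (ℕ × ℕ)}
    (hT : ∀ e ∈ T, Valid D.n e.1) (h : D.checkFix a T w = true) :
    el D.n a • D.val T v = D.val T v := by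
  simp only [checkFix, Bool.and_eq_true, decide_eq_true_eq, beq_iff_eq, List.all_eq_true,
    List.mem_range] at h
  obtain ⟨⟨hlen, hnd⟩, hall⟩ := h
  have hv : D.val T v = ∑ i : Fin T.length, (T.getD i.1 (0, 0)).2 • (el D.n (T.getD i.1 (0, 0)).1 • v) := by
    rw [val, ← List.sum_ofFn]
    congr 1
    refine List.ext_getElem (by simp) fun i h1 h2 => ?_
    simp only [List.getElem_map, List.getElem_ofFn]
    rw [List.getD_eq_getElem]
  let π : Fin T.length → Fin T.length := fun i => ⟨(w.getD i.1 (0, 0)).1, (hall i.1 i.2).1.1.1⟩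
  have hinj : Function.Injective π := by
    intro i j e
    have e' : (w.getD i.1 (0, 0)).1 = (w.getD j.1 (0, 0)).1 := congrArg Fin.val e
    have hi : i.1 < w.length := by rw [hlen]; exact i.2
    have hj : j.1 < w.length := by rw [hlen]; exact j.2
    rw [List.getD_eq_getElem _ _ hi, List.getD_eq_getElem _ _ hj] at e'
    exact Fin.ext ((hnd.getElem_inj_iff (hi := by simpa using hi) (hj := by simpa using hj)).1
      (by simpa using e'))
  rw [hv, Finset.smul_sum]
  conv_rhs => rw [← Equiv.sum_comp (Equiv.ofBijective π (Finite.injective_iff_bijective.1 hinj))]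
  refine Finset.sum_congr rfl fun i _ => ?_
  obtain ⟨⟨⟨hπ, hk⟩, hc⟩, hcv⟩ := hall i.1 i.2
  have hmem : ∀ j, j < T.length → Valid D.n (T.getD j (0, 0)).1 := fun j hj => by
    rw [List.getD_eq_getElem _ _ hj]; exact hT _ (List.getElem_mem hj)
  obtain ⟨hkv, hke⟩ := kTable hp hgen hK _ hk
  show _ = (T.getD (w.getD i.1 (0, 0)).1 (0, 0)).2 • (el D.n (T.getD (w.getD i.1 (0, 0)).1 (0, 0)).1 • v)
  rw [smul_nsmul_comm _ (el D.n (T.getD i.1 (0, 0)).1 • v), ← mul_smul, ← (ha.comp (hmem _ i.2)).2, hc,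
    ((hmem _ hπ).comp hkv).2, mul_smul, hke, smul_nsmul_comm _ v, ← mul_nsmul']
  exact nsmul_congr hp hcv _

variable (D) in
/-- the folding operator -/
noncomputable def fold (w : V) : V :=
  ∑ i : Fin D.Q.length, D.winv.getD i.1 0 • (el D.n (D.kc (D.Q.getD i.1 0)) • w)

theorem fold_smul (hK : D.checkK = true) (hQ : D.checkQ = true) {r : ℕ} (hr : r < D.Q.length) (w : V) :
    fold D (el D.n (D.kc (D.Q.getD r 0)) • w) = D.kv (D.Q.getD r 0) • fold D w := by
  simp only [checkQ, Bool.and_eq_true, decide_eq_true_eq, beq_iff_eq, List.all_eq_true, List.any_eq_true,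
    List.mem_range] at hQ
  obtain ⟨⟨⟨⟨-, hnd⟩, hlt⟩, hinv⟩, hcl⟩ := hQ
  have hmem : ∀ i, i < D.Q.length → D.Q.getD i 0 ∈ D.Q := fun i hi => by
    rw [List.getD_eq_getElem _ _ hi]; exact List.getElem_mem hi
  have hval : ∀ i, i < D.Q.length → Valid D.n (D.kc (D.Q.getD i 0)) := fun i hi =>
    (kTable hp hgen hK _ (hlt _ (hmem i hi))).1
  have hex : ∀ i : Fin D.Q.length, ∃ t : Fin D.Q.length,
      D.kc (D.Q.getD t.1 0) = comp (D.kc (D.Q.getD i.1 0)) D.n (D.kc (D.Q.getD r 0)) ∧
      D.kv (D.Q.getD t.1 0) = D.kv (D.Q.getD i.1 0) * D.kv (D.Q.getD r 0) % D.p := fun i => by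
    obtain ⟨t, ht, h1, h2⟩ := hcl _ (hmem i.1 i.2) _ (hmem r hr)
    exact ⟨⟨t, ht⟩, h1, h2⟩
  choose s hs2 hs3 using hex
  have hel : ∀ i : Fin D.Q.length, el D.n (D.kc (D.Q.getD (s i).1 0)) =
      el D.n (D.kc (D.Q.getD i.1 0)) * el D.n (D.kc (D.Q.getD r 0)) := fun i => by
    rw [hs2 i, ((hval _ i.2).comp (hval _ hr)).2]
  have hsinj : Function.Injective s := by
    intro i j e
    have h0 := (congrArg (fun t => el D.n (D.kc (D.Q.getD t.1 0))) e)
    simp only [hel] at h0
    have h' := mul_right_cancel h0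
    have h1 : D.kc (D.Q.getD i.1 0) = D.kc (D.Q.getD j.1 0) := by
      rw [← (hval _ i.2).2, ← (hval _ j.2).2, h']
    rw [List.getD_eq_getElem _ _ i.2, List.getD_eq_getElem _ _ j.2] at h1
    exact Fin.ext ((hnd.getElem_inj_iff (hi := by simp) (hj := by simp)).1 (by simpa using h1))
  rw [fold, fold, Finset.smul_sum]
  conv_rhs => rw [← Equiv.sum_comp (Equiv.ofBijective s (Finite.injective_iff_bijective.1 hsinj))]
  refine Finset.sum_congr rfl fun i _ => ?_
  show _ = D.kv (D.Q.getD r 0) • (D.winv.getD (s i).1 0 • (el D.n (D.kc (D.Q.getD (s i).1 0)) • w))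
  rw [hel i, mul_smul, ← mul_nsmul']
  refine nsmul_congr hp ?_ _
  have a1 := hinv i.1 i.2
  have a2 := hinv (s i).1 (s i).2
  rw [hs3 i] at a2
  have : ((D.winv.getD i.1 0 : ℕ) : ZMod D.p) =
      (D.kv (D.Q.getD r 0) : ℕ) * (D.winv.getD (s i).1 0 : ℕ) := by
    have b1 : ((D.winv.getD i.1 0 * D.kv (D.Q.getD i.1 0) : ℕ) : ZMod D.p) = 1 := by
      rw [← ZMod.natCast_mod, a1, Nat.cast_one]
    have b2 : ((D.winv.getD (s i).1 0 * (D.kv (D.Q.getD i.1 0) * D.kv (D.Q.getD r 0) % D.p) : ℕ) : ZMod D.p) = 1 := by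
      rw [← ZMod.natCast_mod, a2, Nat.cast_one]
    push_cast [ZMod.natCast_mod] at b1 b2
    linear_combination (D.kv (D.Q.getD r 0) : ZMod D.p) * (D.winv.getD (s i).1 0 : ℕ) * b1
      - (D.winv.getD i.1 0 : ZMod D.p) * b2
  exact (ZMod.natCast_eq_natCast_iff' _ _ _).1 (by push_cast; exact this)

theorem fold_self (hK : D.checkK = true) (hQ : D.checkQ = true) : fold D v = D.Q.length • v := by
  simp only [checkQ, Bool.and_eq_true, decide_eq_true_eq, beq_iff_eq, List.all_eq_true, List.mem_range] at hQ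
  obtain ⟨⟨⟨-, hlt⟩, hinv⟩, -⟩ := hQ
  have : ∀ i : Fin D.Q.length,
      D.winv.getD i.1 0 • (el D.n (D.kc (D.Q.getD i.1 0)) • v) = v := fun i => by
    rw [(kTable hp hgen hK _ (hlt _ (by rw [List.getD_eq_getElem _ _ i.2]; exact List.getElem_mem i.2))).2,
      ← mul_nsmul', ← mod_nsmul hp, hinv i.1 i.2, one_nsmul]
  rw [fold, Finset.sum_congr rfl fun i _ => this i, Finset.sum_const, Finset.card_univ, Fintype.card_fin]

theorem fold_inc (hpr : D.p.Prime) (hK : D.checkK = true) (hQ : D.checkQ = true) (hR : D.checkR = true)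
    {x : ℕ} (hx : Valid D.n x) (c : ℕ) {e : ℕ × ℕ × ℕ} (h : D.checkInc x e = true) :
    c • fold D (el D.n x • v) = D.incVal c e • fold D (el D.n (D.R.get e.1) • v) := by
  obtain ⟨j, q, k⟩ := e
  simp only [checkInc, Bool.and_eq_true, decide_eq_true_eq] at h
  obtain ⟨⟨hq, hk⟩, h⟩ := h
  obtain ⟨hkv, hke⟩ := kTable hp hgen hK k hk
  have hlt : D.Q.getD q 0 < D.ksize := by
    simp only [checkQ, Bool.and_eq_true, decide_eq_true_eq, List.all_eq_true] at hQ
    exact hQ.1.1.2 _ (by rw [List.getD_eq_getElem _ _ hq]; exact List.getElem_mem hq)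
  have hqv := (kTable hp hgen hK _ hlt).1
  by_cases hj : j < D.rsize
  · simp only [if_pos hj, beq_iff_eq] at h
    simp only [checkR, Bool.and_eq_true, List.all_eq_true, List.mem_range] at hR
    have hr := valid_of_okB (hR.2 j hj)
    simp only [incVal, if_pos hj]
    rw [h, ((hqv.comp hr).1.comp hkv).2, (hqv.comp hr).2, mul_smul, mul_smul, hke,
      smul_nsmul_comm _ v, smul_nsmul_comm _ (el D.n (D.R.get j) • v), mod_nsmul hp]
    have hlin : ∀ (m : ℕ) (u : V), fold D (m • u) = m • fold D u := fun m u => by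
      simp only [fold, Finset.smul_sum, smul_nsmul_comm, ← mul_nsmul', mul_comm]
    rw [hlin, fold_smul hp hgen hK hQ hq, ← mul_nsmul', ← mul_nsmul',
      mul_right_comm]
  · simp only [if_neg hj, Bool.and_eq_true, beq_iff_eq, decide_eq_true_eq] at h
    simp only [incVal, if_neg hj, zero_nsmul]
    have h1 : el D.n (D.kc (D.Q.getD q 0)) • (el D.n x • v) = D.kv k • (el D.n x • v) := by
      rw [← mul_smul, ← (hqv.comp hx).2, h.1, (hx.comp hkv).2, mul_smul, hke, smul_nsmul_comm]
    have hlin : ∀ (m : ℕ) (u : V), fold D (m • u) = m • fold D u := fun m u => by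
      simp only [fold, Finset.smul_sum, smul_nsmul_comm, ← mul_nsmul', mul_comm]
    have h2 := fold_smul hp hgen hK hQ hq (el D.n x • v)
    rw [h1, hlin] at h2
    have hz : (D.kv k + (D.p - D.kv (D.Q.getD q 0) % D.p)) • fold D (el D.n x • v) = 0 := by
      rw [add_nsmul, h2, ← mod_nsmul hp (D.kv (D.Q.getD q 0)), ← add_nsmul,
        Nat.add_sub_cancel' (Nat.mod_lt _ hpr.pos).le, hp]
    rw [eq_zero_of_nsmul hpr hp ?_ hz, smul_zero]
    have := Nat.mod_lt (D.kv (D.Q.getD q 0)) hpr.pos
    have := Nat.mod_lt (D.kv k) hpr.pos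
    rw [Nat.add_mod]
    intro hc
    apply h.2
    rcases Nat.eq_zero_or_pos (D.kv (D.Q.getD q 0) % D.p) with h0 | h0
    · rw [h0, Nat.sub_zero, Nat.mod_self, add_zero, Nat.mod_mod] at hc
      omega
    · rw [Nat.mod_eq_of_lt (show D.p - D.kv (D.Q.getD q 0) % D.p < D.p by omega)] at hc
      rcases Nat.lt_or_ge (D.kv k % D.p + (D.p - D.kv (D.Q.getD q 0) % D.p)) D.p with hl | hl
      · rw [Nat.mod_eq_of_lt hl] at hc; omega
      · rw [Nat.mod_eq_sub_mod hl, Nat.mod_eq_of_lt (by omega)] at hc; omega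

/-- A certificate shows that the eigenvector is zero. -/
theorem eq_zero_of_cert (hpr : D.p.Prime) (hK : D.checkK = true) (hQ : D.checkQ = true)
    (hR : D.checkR = true) {B : ℕ} {seeds : List (List (ℕ × ℕ))}
    {l : List (ℕ × ℕ × ℕ × List (ℕ × ℕ × ℕ))} {T : ℕ}
    (hseedv : ∀ s ∈ seeds, ∀ e ∈ s, Valid D.n e.1) (hseed : ∀ s ∈ seeds, D.val s v = 0)
    (hl : (l.all fun t => D.checkTerm seeds t) = true) (ht : D.checkTotal B seeds l T = true) : v = 0 := by
  classical
  have hlin : ∀ (m : ℕ) (u : V), fold D (m • u) = m • fold D u := fun m u => by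
    simp only [fold, Finset.smul_sum, smul_nsmul_comm, ← mul_nsmul', mul_comm]
  have hadd : ∀ u w : V, fold D (u + w) = fold D u + fold D w := fun u w => by
    simp only [fold, smul_add, Finset.sum_add_distrib]
  let b : ℕ → V := fun j => fold D (el D.n (D.R.get j) • v)
  -- one translate
  have hpair : ∀ (c t : ℕ), Valid D.n t → ∀ (s : List (ℕ × ℕ)) (ws : List (ℕ × ℕ × ℕ)), ws.length = s.length →
      (∀ e ∈ s, Valid D.n e.1) → ((s.zip ws).all fun e => D.checkInc (comp t D.n e.1.1) e.2) = true →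
      ∃ S : ℕ → ℕ, (∀ j, S j ≤ ws.length * D.p) ∧ (∀ j, D.rsize ≤ j → S j = 0) ∧
        D.termSum B c (s.zip ws) = ∑ j ∈ Finset.range D.rsize, S j * B ^ j ∧
        c • fold D (el D.n t • D.val s v) = ∑ j ∈ Finset.range D.rsize, S j • b j := by
    intro c t htv s
    induction s with
    | nil =>
      intro ws hlen _ _
      have hw : ws = [] := by cases ws with | nil => rfl | cons _ _ => simp at hlen
      subst hw
      refine ⟨0, fun j => by simp, fun j _ => rfl, by simp [termSum], ?_⟩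
      have h0 : fold D (0 : V) = 0 := by simp [fold]
      simp [val, h0]
    | cons e s ih =>
      intro ws hlen hv hall
      cases ws with
      | nil => simp at hlen
      | cons w ws =>
        simp only [List.zip_cons_cons, List.all_cons, Bool.and_eq_true] at hall
        obtain ⟨S, hS1, hS2, hS3, hS4⟩ := ih ws (by simpa using hlen)
          (fun e he => hv e (List.mem_cons_of_mem _ he)) hall.2
        have hlow : D.incVal (c * e.2) w ≤ D.p := by
          obtain ⟨j, q, k⟩ := w
          simp only [incVal]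
          split_ifs
          · exact (Nat.mod_lt _ hpr.pos).le
          · exact Nat.zero_le _
        refine ⟨fun j => (if j = w.1 ∧ j < D.rsize then D.incVal (c * e.2) w else 0) + S j, fun j => ?_,
          fun j hj => ?_, ?_, ?_⟩
        · have := hS1 j
          simp only [List.length_cons]
          rw [Nat.succ_mul]
          split_ifs <;> omega
        · show _ + _ = 0
          rw [if_neg (by omega), hS2 j hj]
        · rw [List.zip_cons_cons, termSum, hS3]
          simp only [add_mul, Finset.sum_add_distrib]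
          congr 1
          by_cases hw : w.1 < D.rsize
          · rw [Finset.sum_eq_single w.1 (fun j _ hne => by rw [if_neg (fun h : _ ∧ _ => hne h.1), zero_mul])
              (fun h => absurd (Finset.mem_range.2 hw) h), if_pos ⟨rfl, hw⟩]
          · rw [Finset.sum_eq_zero fun j _ => by rw [if_neg (fun h : j = w.1 ∧ j < D.rsize => hw (h.1 ▸ h.2)), zero_mul]]
            obtain ⟨j, q, k⟩ := w
            simp only [incVal, if_neg hw, zero_mul]
        · have hxe := htv.comp (hv e List.mem_cons_self)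
          have hi := fold_inc hp hgen hpr hK hQ hR hxe.1 (c * e.2) hall.1
          rw [hxe.2, mul_smul (el D.n t) (el D.n e.1) v] at hi
          simp only [val, List.map_cons, List.sum_cons, smul_add, hadd] at hS4 ⊢
          rw [hS4, smul_nsmul_comm, hlin, ← mul_nsmul', hi]
          simp only [add_nsmul, Finset.sum_add_distrib]
          congr 1
          by_cases hw : w.1 < D.rsize
          · rw [Finset.sum_eq_single w.1 (fun j _ hne => by rw [if_neg (fun h : _ ∧ _ => hne h.1), zero_nsmul])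
              (fun h => absurd (Finset.mem_range.2 hw) h), if_pos ⟨rfl, hw⟩]
          · rw [Finset.sum_eq_zero fun j _ => by rw [if_neg (fun h : j = w.1 ∧ j < D.rsize => hw (h.1 ▸ h.2)), zero_nsmul]]
            obtain ⟨j, q, k⟩ := w
            simp only [incVal, if_neg hw, zero_nsmul]
  -- all translates
  have hall : ∀ l : List (ℕ × ℕ × ℕ × List (ℕ × ℕ × ℕ)), (l.all fun t => D.checkTerm seeds t) = true →
      ∃ S : ℕ → ℕ, (∀ j, S j ≤ count l * D.p) ∧
        D.total B seeds l = ∑ j ∈ Finset.range D.rsize, S j * B ^ j ∧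
        (0 : V) = ∑ j ∈ Finset.range D.rsize, S j • b j := by
    intro l
    induction l with
    | nil => intro; exact ⟨0, fun j => by simp, by simp [total], by simp⟩
    | cons t l ih =>
      intro h
      obtain ⟨c, tc, s, ws⟩ := t
      simp only [List.all_cons, Bool.and_eq_true, checkTerm, decide_eq_true_eq] at h
      obtain ⟨⟨⟨⟨hs, htok⟩, hlen⟩, hincs⟩, hrest⟩ := h
      obtain ⟨S, hS1, hS2, hS3⟩ := ih hrest
      have hmem : seeds.getD s [] ∈ seeds := by
        rw [List.getD_eq_getElem _ _ hs]; exact List.getElem_mem hs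
      obtain ⟨S', hS1', -, hS3', hS4'⟩ := hpair c tc (valid_of_okB htok) _ ws hlen
        (hseedv _ hmem) hincs
      refine ⟨fun j => S' j + S j, fun j => ?_, ?_, ?_⟩
      · have := hS1 j; have := hS1' j
        simp only [count, add_mul]; omega
      · rw [total, hS2, hS3']; simp only [add_mul, Finset.sum_add_distrib]
      · simp only [add_nsmul, Finset.sum_add_distrib, ← hS3, ← hS4', hseed _ hmem, smul_zero, add_zero]
        simp [fold]
  simp only [checkTotal, Bool.and_eq_true, decide_eq_true_eq, beq_iff_eq, List.all_eq_true,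
    List.mem_range] at ht
  obtain ⟨⟨⟨hB, hr0⟩, hT⟩, hdig⟩ := ht
  obtain ⟨S, hS1, hS2, hS3⟩ := hall l hl
  have hSB : ∀ j, S j < B := fun j => lt_of_le_of_lt (hS1 j) hB
  have hB0 : 0 < B := lt_of_le_of_lt (Nat.zero_le _) hB
  have digit : ∀ (m : ℕ) (S : ℕ → ℕ), (∀ j, S j < B) → ∀ i, i < m →
      (∑ j ∈ Finset.range m, S j * B ^ j) / B ^ i % B = S i := by
    intro m
    induction m with
    | zero => intro S _ i hi; omega
    | succ m ih =>
      intro S hS i hi
      have hsplit : ∑ j ∈ Finset.range (m + 1), S j * B ^ j =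
          S 0 + B * ∑ j ∈ Finset.range m, S (j + 1) * B ^ j := by
        rw [Finset.sum_range_succ', add_comm, pow_zero, mul_one, Finset.mul_sum]
        congr 1
        refine Finset.sum_congr rfl fun j _ => ?_
        ring
      cases i with
      | zero => rw [hsplit, pow_zero, Nat.div_one, Nat.add_mul_mod_self_left, Nat.mod_eq_of_lt (hS 0)]
      | succ i =>
        rw [pow_succ', ← Nat.div_div_eq_div_mul, hsplit, Nat.add_mul_div_left _ _ hB0,
          Nat.div_eq_of_lt (hS 0), zero_add]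
        exact ih _ (fun j => hS (j + 1)) i (by omega)
  have hres : ∀ j, j < D.rsize → ((j = 0) ↔ S j % D.p ≠ 0) := fun j hj => by
    have h := hdig j hj
    rw [← hT, hS2, digit _ S hSB j hj] at h
    exact decide_eq_decide.1 h
  rw [Finset.sum_eq_single 0 (fun j hj hne => ?_) (fun h => absurd (Finset.mem_range.2 hr0) h)] at hS3
  · have hb : b 0 = D.Q.length • v := by
      show fold D (el D.n (D.R.get 0) • v) = _
      simp only [checkR, Bool.and_eq_true, beq_iff_eq] at hR
      simp only [checkK, Bool.and_eq_true, decide_eq_true_eq] at hK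
      rw [hR.1, el_eq (valid_of_okB hK.1.1.1.2).1 (σ := 1) (by rw [hK.1.1.2]; rfl), one_smul]
      exact fold_self hp hgen (by simp only [checkK, Bool.and_eq_true, decide_eq_true_eq]; exact hK) hQ
    have h0 : b 0 = 0 := eq_zero_of_nsmul hpr hp ((hres 0 hr0).1 rfl) hS3.symm
    rw [hb] at h0
    refine eq_zero_of_nsmul hpr hp ?_ h0
    simp only [checkQ, Bool.and_eq_true, decide_eq_true_eq] at hQ
    exact hQ.1.1.1.1
  · have h := hres j (Finset.mem_range.1 hj)
    have : S j % D.p = 0 := by by_contra hc; exact hne (h.2 hc)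
    rw [← mod_nsmul hp, this, zero_nsmul]

end

end Ctx

end Cfsg.Agent.AltCentCert
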