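import Cfsg.Agent.AltCentCert.Seeds

/-!
Identities between products of coded permutations; fixed vectors of elements of prime order.
-/

set_option autoImplicit false

namespace Cfsg.Agent.AltCentCert

/-- the code of a product, from the code of the identity -/
def wcode (n one : ℕ) : List ℕ → ℕ
  | [] => one
  | x :: l => comp x n (wcode n one l)

/-- the test for an identity between two products -/
def wordsB (n one : ℕ) (l m : List ℕ) : Bool :=
  okB n one && (comp one n one == one) && ((l ++ m).all fun x => okB n x) &&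
    (wcode n one l == wcode n one m)

variable {n one : ℕ}

theorem el_one_of_idem (h : okB n one = true) (h' : comp one n one = one) : el n one = 1 := by
  have hv := valid_of_okB h
  have e := (hv.comp hv).2
  rw [h'] at e
  exact mul_eq_left.1 e.symm

theorem prod_el_eq (h1 : okB n one = true) (h2 : comp one n one = one) :
    ∀ l : List ℕ, (∀ x ∈ l, okB n x = true) →
      Valid n (wcode n one l) ∧ (l.map (el n)).prod = el n (wcode n one l)
  | [], _ => ⟨valid_of_okB h1, (el_one_of_idem h1 h2).symm⟩
  | x :: l, h => by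
    obtain ⟨hv, he⟩ := prod_el_eq h1 h2 l fun y hy => h y (List.mem_cons_of_mem _ hy)
    obtain ⟨hv', he'⟩ := (valid_of_okB (h x List.mem_cons_self)).comp hv
    exact ⟨hv', by rw [List.map_cons, List.prod_cons, he, wcode, he']⟩

theorem words_eq {l m : List ℕ} (h : wordsB n one l m = true) :
    (l.map (el n)).prod = (m.map (el n)).prod := by
  simp only [wordsB, Bool.and_eq_true, beq_iff_eq, List.all_eq_true, List.mem_append] at h
  obtain ⟨⟨⟨h1, h2⟩, h3⟩, h4⟩ := h
  rw [(prod_el_eq h1 h2 l fun x hx => h3 x (Or.inl hx)).2,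
    (prod_el_eq h1 h2 m fun x hx => h3 x (Or.inr hx)).2, h4]

variable {G V : Type*} [Group G] [AddCommGroup V] [DistribMulAction G V]

theorem exists_fixed_of_orderTwo (hp : ∀ w : V, 2 • w = 0) (g : G) (hg : ∀ w : V, g • g • w = w)
    (P : V → Prop) (hadd : ∀ u w, P u → P w → P (u + w)) (hsmul : ∀ w, P w → P (g • w))
    {v : V} (hv : P v) (hne : v ≠ 0) : ∃ w, P w ∧ w ≠ 0 ∧ g • w = w := by
  by_cases h : g • v + v = 0
  · refine ⟨v, hv, hne, ?_⟩
    have := hp v
    rw [two_nsmul] at this
    exact add_right_cancel (h.trans this.symm)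
  · exact ⟨_, hadd _ _ (hsmul v hv) hv, h, by rw [smul_add, hg, add_comm]⟩

theorem exists_fixed_of_orderFive (hp : ∀ w : V, 5 • w = 0) (g : G)
    (hg : ∀ w : V, g • g • g • g • g • w = w)
    (P : V → Prop) (hsub : ∀ u w, P u → P w → P (u - w)) (hsmul : ∀ w, P w → P (g • w))
    {v : V} (hv : P v) (hne : v ≠ 0) : ∃ w, P w ∧ w ≠ 0 ∧ g • w = w := by
  let d : V → V := fun w => g • w - w
  have hP : ∀ w, P w → P (d w) := fun w hw => hsub _ _ (hsmul w hw) hw
  have key : ∀ (k : ℕ) (w : V), P w → w ≠ 0 → d^[k] w = 0 → ∃ u, P u ∧ u ≠ 0 ∧ g • u = u := by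
    intro k
    induction k with
    | zero => intro w _ hw h; exact absurd h hw
    | succ k ih =>
      intro w hPw hw h
      by_cases h0 : d w = 0
      · exact ⟨w, hPw, hw, sub_eq_zero.1 h0⟩
      · exact ih (d w) (hP w hPw) h0 (by rwa [Function.iterate_succ_apply] at h)
  refine key 5 v hv hne ?_
  simp only [Function.iterate_succ_apply, Function.iterate_zero_apply, d, smul_sub, hg]
  have h5 := hp (g • g • g • g • v)
  have h10 := hp (g • g • g • v)
  have h10' := hp (g • g • v)
  have h5' := hp (g • v)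
  calc _ = -(5 • (g • g • g • g • v)) + 2 • (5 • (g • g • g • v)) - 2 • (5 • (g • g • v)) + 5 • (g • v) := by abel
    _ = 0 := by rw [h5, h10, h10', h5']; simp

end Cfsg.Agent.AltCentCert
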